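import Groth.Agent.Lib.EtMod.HomCx.Basic
import Mathlib.Algebra.Homology.HomotopyCategory.HomComplex
import Mathlib.Algebra.Category.ModuleCat.Presheaf
import Mathlib.Algebra.Category.ModuleCat.Sheaf.Colimits

/-!
# The sheaf of cochains between two complexes of sheaves of modules

Over `X`, its degree `n` sections are the cochains of degree `n` between the restrictions to `X`.
-/

set_option autoImplicit false
set_option backward.isDefEq.respectTransparency false
set_option backward.isDefEq.respectTransparency.types false

universe u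

open CategoryTheory CategoryTheory.Limits Opposite CochainComplex.HomComplex

namespace Groth.Agent.Lib.EtMod.HomCx

variable {C : Type (u + 1)} [Category.{u} C] {J : GrothendieckTopology C}
  {R : Sheaf J RingCat.{u + 1}}

instance additive_overFunctor (X : C) : (SheafOfModules.overFunctor.{u + 1} R X).Additive where
  map_add := by intros; rfl

/-- Restriction of complexes. -/
noncomputable abbrev resC (X : C) (K : CochainComplex (SheafOfModules.{u + 1} R) ℤ) :
    CochainComplex (SheafOfModules.{u + 1} (R.over X)) ℤ :=
  ((SheafOfModules.overFunctor R X).mapHomologicalComplex (ComplexShape.up ℤ)).obj K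

/-- Restriction of morphisms of complexes. -/
noncomputable abbrev resCMap (X : C) {K K' : CochainComplex (SheafOfModules.{u + 1} R) ℤ}
    (a : K ⟶ K') : resC X K ⟶ resC X K' :=
  ((SheafOfModules.overFunctor R X).mapHomologicalComplex (ComplexShape.up ℤ)).map a

variable {K K' L L' : CochainComplex (SheafOfModules.{u + 1} R) ℤ}

/-- Restriction of cochains along a map of the site. -/
noncomputable def resCoch {X Y : C} (g : Y ⟶ X) (n : ℤ) :
    Cochain (resC X K) (resC X L) n →+ Cochain (resC Y K) (resC Y L) n where
  toFun z := Cochain.mk fun p q h => resHom g (z.v p q h)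
  map_zero' := Cochain.ext _ _ fun p q h => map_zero (resHom g)
  map_add' z z' := Cochain.ext _ _ fun p q h => map_add (resHom g) _ _

theorem resCoch_v {X Y : C} (g : Y ⟶ X) {n : ℤ} (z : Cochain (resC X K) (resC X L) n) (p q : ℤ)
    (h : p + n = q) : (resCoch g n z).v p q h = resHom g (z.v p q h) := rfl

theorem resCoch_id {X : C} {n : ℤ} (z : Cochain (resC X K) (resC X L) n) : resCoch (𝟙 X) n z = z :=
  Cochain.ext _ _ fun p q h => resHom_id (z.v p q h)

theorem resCoch_comp {X Y Z : C} (g : Y ⟶ X) (k : Z ⟶ Y) {n : ℤ}
    (z : Cochain (resC X K) (resC X L) n) : resCoch (k ≫ g) n z = resCoch k n (resCoch g n z) :=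
  Cochain.ext _ _ fun p q h => resHom_comp g k (z.v p q h)

theorem δ_resCoch {X Y : C} (g : Y ⟶ X) {n m : ℤ} (hm : n + 1 = m)
    (z : Cochain (resC X K) (resC X L) n) : δ n m (resCoch g n z) = resCoch g m (δ n m z) := by
  refine Cochain.ext _ _ fun p q h => ?_
  rw [resCoch_v, δ_v n m hm _ p q h (q - 1) (p + 1) rfl rfl, δ_v n m hm _ p q h (q - 1) (p + 1) rfl rfl,
    map_add, resHom_compHom, Units.smul_def, Units.smul_def, map_zsmul, resHom_compHom]
  simp only [resCoch_v, Functor.mapHomologicalComplex_obj_d, resHom_over]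

theorem resCoch_comp_ofHom {X Y : C} (g : Y ⟶ X) {n : ℤ} (z : Cochain (resC X K) (resC X L) n)
    (b : resC X L ⟶ resC X L') (b' : resC Y L ⟶ resC Y L') (hb : ∀ q, resHom g (b.f q) = b'.f q) :
    resCoch g n (z.comp (Cochain.ofHom b) (add_zero n)) =
      (resCoch g n z).comp (Cochain.ofHom b') (add_zero n) := by
  refine Cochain.ext _ _ fun p q h => ?_
  simp only [resCoch_v, Cochain.comp_zero_cochain_v, Cochain.ofHom_v, resHom_compHom, hb]

theorem resCoch_ofHom_comp {X Y : C} (g : Y ⟶ X) {n : ℤ} (z : Cochain (resC X K) (resC X L) n)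
    (a : resC X K' ⟶ resC X K) (a' : resC Y K' ⟶ resC Y K) (ha : ∀ p, resHom g (a.f p) = a'.f p) :
    resCoch g n ((Cochain.ofHom a).comp z (zero_add n)) =
      (Cochain.ofHom a').comp (resCoch g n z) (zero_add n) := by
  refine Cochain.ext _ _ fun p q h => ?_
  simp only [resCoch_v, Cochain.zero_cochain_comp_v, Cochain.ofHom_v, resHom_compHom, ha]

variable (hR : IsComm R)

/-- Multiplication by a function on a complex. -/
noncomputable def scalC (L : CochainComplex (SheafOfModules.{u + 1} R) ℤ) {X : C}
    (r : R.obj.obj (op X)) : resC X L ⟶ resC X L where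
  f q := scal hR (L.X q) r
  comm' i j _ := scal_comm hR r ((resC X L).d i j)

theorem scalC_f {X : C} (r : R.obj.obj (op X)) (q : ℤ) : (scalC hR L r).f q = scal hR (L.X q) r := rfl

variable (K L)

/-- The degree `n` cochains over an object. -/
def CochS (_hR : IsComm R) (n : ℤ) (X : Cᵒᵖ) : Type (u + 1) :=
  Cochain (resC X.unop K) (resC X.unop L) n

noncomputable instance (n : ℤ) (X : Cᵒᵖ) : AddCommGroup (CochS K L hR n X) :=
  inferInstanceAs (AddCommGroup (Cochain (resC X.unop K) (resC X.unop L) n))

noncomputable instance (n : ℤ) (X : Cᵒᵖ) : Module (R.obj.obj X) (CochS K L hR n X) where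
  smul r z := Cochain.comp (show Cochain (resC X.unop K) (resC X.unop L) n from z)
    (Cochain.ofHom (scalC hR L r)) (add_zero n)
  one_smul z := Cochain.ext _ _ fun p q h => by
    change Cochain.v (Cochain.comp _ _ _) p q h = _
    rw [Cochain.comp_zero_cochain_v, Cochain.ofHom_v, scalC_f, scal_one]
    exact Category.comp_id _
  mul_smul r r' z := Cochain.ext _ _ fun p q h => by
    change Cochain.v (Cochain.comp _ _ _) p q h = Cochain.v (Cochain.comp (Cochain.comp _ _ _) _ _) p q h
    simp only [Cochain.comp_zero_cochain_v, Cochain.ofHom_v, scalC_f, Category.assoc]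
    exact congrArg _ (scal_mul hR r r')
  smul_zero r := Cochain.zero_comp _ _
  smul_add r z z' := Cochain.add_comp _ _ _ _
  add_smul r r' z := Cochain.ext _ _ fun p q h => by
    change Cochain.v (Cochain.comp _ _ _) p q h =
      Cochain.v (Cochain.comp _ _ _ + Cochain.comp _ _ _) p q h
    simp only [Cochain.add_v, Cochain.comp_zero_cochain_v, Cochain.ofHom_v, scalC_f]
    exact (congrArg _ (scal_add hR r r')).trans (Preadditive.comp_add _ _ _ _ _ _)
  zero_smul z := Cochain.ext _ _ fun p q h => by
    change Cochain.v (Cochain.comp _ _ _) p q h = _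
    rw [Cochain.comp_zero_cochain_v, Cochain.ofHom_v, scalC_f, scal_zero, comp_zero]
    rfl

theorem smul_cochS {n : ℤ} {X : Cᵒᵖ} (r : R.obj.obj X) (z : CochS K L hR n X) :
    r • z = Cochain.comp (show Cochain (resC X.unop K) (resC X.unop L) n from z)
      (Cochain.ofHom (scalC hR L r)) (add_zero n) := rfl

/-- The underlying abelian presheaf of cochains. -/
noncomputable def cochAb (n : ℤ) : Cᵒᵖ ⥤ AddCommGrpCat.{u + 1} where
  obj X := AddCommGrpCat.of (CochS K L hR n X)
  map g := AddCommGrpCat.ofHom (resCoch g.unop n)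
  map_id X := AddCommGrpCat.hom_ext (AddMonoidHom.ext fun z => resCoch_id z)
  map_comp g k := AddCommGrpCat.hom_ext (AddMonoidHom.ext fun z => resCoch_comp g.unop k.unop z)

noncomputable instance (n : ℤ) (X : Cᵒᵖ) : Module (R.obj.obj X) ((cochAb K L hR n).obj X) :=
  inferInstanceAs (Module (R.obj.obj X) (CochS K L hR n X))

/-- The presheaf of modules of cochains. -/
noncomputable def cochPsh (n : ℤ) : PresheafOfModules.{u + 1} R.obj :=
  PresheafOfModules.ofPresheaf (cochAb K L hR n) fun X Y g r z =>
    resCoch_comp_ofHom g.unop (show Cochain (resC X.unop K) (resC X.unop L) n from z) (scalC hR L r)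
      (scalC hR L ((R.obj.map g).hom r)) fun q => resHom_scal hR g.unop r

theorem isSheaf_cochPsh (n : ℤ) : Presheaf.IsSheaf J (cochPsh K L hR n).presheaf := by
  refine (Presheaf.isSheaf_iff_isSheaf_forget J _ (CategoryTheory.forget AddCommGrpCat.{u + 1})).2
    ((isSheaf_iff_isSheaf_of_type _ _).2 fun X S hS x hx => ?_)
  rw [Presieve.compatible_iff_sieveCompatible] at hx
  have hc : ∀ ⦃Y Z : C⦄ (k : Z ⟶ Y) (f : Y ⟶ X) (hf : S f),
      (show Cochain (resC Z K) (resC Z L) n from x (k ≫ f) (S.downward_closed hf k)) =
        resCoch k n (show Cochain (resC Y K) (resC Y L) n from x f hf) :=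
    fun Y Z k f hf => hx f k hf
  choose ψ hψ using fun (p q : ℤ) (h : p + n = q) =>
    exists_glue_hom (F := K.X p) (G := L.X q) hS
      (fun Y f hf => (show Cochain (resC Y K) (resC Y L) n from x f hf).v p q h)
      fun Y Z k f hf => congrArg (fun z => Cochain.v z p q h) (hc k f hf)
  refine ⟨(show Cochain (resC X K) (resC X L) n from Cochain.mk ψ), fun Y f hf => ?_, fun y hy => ?_⟩
  · exact Cochain.ext _ _ fun p q h => hψ p q h f hf
  · refine Cochain.ext _ _ fun p q h => hom_ext_of_cover hS fun Y f hf => ?_
    exact (congrArg (fun z : Cochain (resC Y K) (resC Y L) n => z.v p q h) (hy f hf)).trans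
      (hψ p q h f hf).symm

/-- The sheaf of cochains. -/
noncomputable def cochSheaf (n : ℤ) : SheafOfModules.{u + 1} R where
  val := cochPsh K L hR n
  isSheaf := isSheaf_cochPsh K L hR n

variable {K L}

/-- A section of the sheaf of cochains as a cochain. -/
noncomputable abbrev toCoch {n : ℤ} {X : Cᵒᵖ} (z : (cochSheaf K L hR n).val.obj X) :
    Cochain (resC X.unop K) (resC X.unop L) n := z

variable (K L)

/-- The differential. -/
noncomputable def cochD (n m : ℤ) (hm : n + 1 = m) : cochSheaf K L hR n ⟶ cochSheaf K L hR m where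
  val := PresheafOfModules.homMk
    { app := fun X => AddCommGrpCat.ofHom (AddMonoidHom.mk' (δ n m (F := resC X.unop K) (G := resC X.unop L))
        fun a b => δ_add n m a b)
      naturality := fun X Y g => AddCommGrpCat.hom_ext (AddMonoidHom.ext fun z =>
        δ_resCoch g.unop hm z) }
    fun X r z => δ_comp_ofHom (show Cochain (resC X.unop K) (resC X.unop L) n from z) (scalC hR L r) m

/-- The complex of sheaves of cochains. -/
noncomputable def homCx : CochainComplex (SheafOfModules.{u + 1} R) ℤ :=
  CochainComplex.of (fun n => cochSheaf K L hR n) (fun n => cochD K L hR n (n + 1) rfl) fun n =>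
    SheafOfModules.hom_ext (PresheafOfModules.hom_ext fun X => ModuleCat.hom_ext
      (LinearMap.ext fun z => δ_δ n (n + 1) (n + 1 + 1)
        (show Cochain (resC X.unop K) (resC X.unop L) n from z)))

theorem homCx_d (n m : ℤ) (hm : n + 1 = m) : (homCx K L hR).d n m = cochD K L hR n m hm := by
  subst hm
  exact CochainComplex.of_d (fun n => cochSheaf K L hR n) (fun n => cochD K L hR n (n + 1) rfl) n

theorem homCx_d_apply (n m : ℤ) (hm : n + 1 = m) {X : Cᵒᵖ} (z : (cochSheaf K L hR n).val.obj X) :
    toCoch hR (((homCx K L hR).d n m).val.app X z) = δ n m (toCoch hR z) := by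
  rw [homCx_d K L hR n m hm]
  rfl

variable {K L}

/-- Precomposition in one degree. -/
noncomputable def preN (a : K' ⟶ K) (n : ℤ) : cochSheaf K L hR n ⟶ cochSheaf K' L hR n where
  val := PresheafOfModules.homMk
    { app := fun X => AddCommGrpCat.ofHom (AddMonoidHom.mk'
        (fun z : Cochain (resC X.unop K) (resC X.unop L) n =>
          (Cochain.ofHom (resCMap X.unop a)).comp z (zero_add n))
        fun x y => Cochain.comp_add _ _ _ _)
      naturality := fun X Y g => AddCommGrpCat.hom_ext (AddMonoidHom.ext fun z =>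
        (resCoch_ofHom_comp g.unop z (resCMap X.unop a) (resCMap Y.unop a)
          fun p => resHom_over g.unop (a.f p)).symm) }
    fun X r z => (Cochain.comp_assoc_of_third_is_zero_cochain (Cochain.ofHom (resCMap X.unop a))
      (show Cochain (resC X.unop K) (resC X.unop L) n from z) (Cochain.ofHom (scalC hR L r))
      (zero_add n)).symm

/-- Precomposition. -/
noncomputable def pre (a : K' ⟶ K) : homCx K L hR ⟶ homCx K' L hR where
  f := preN hR a
  comm' i j hij := SheafOfModules.hom_ext (PresheafOfModules.hom_ext fun X => ModuleCat.hom_ext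
    (LinearMap.ext fun z => by
      change ((homCx K' L hR).d i j).val.app X ((preN hR a i).val.app X z) =
        (preN hR a j).val.app X (((homCx K L hR).d i j).val.app X z)
      rw [homCx_d K L hR i j hij, homCx_d K' L hR i j hij]
      exact δ_ofHom_comp (resCMap X.unop a) (toCoch hR z) j))

theorem pre_apply (a : K' ⟶ K) (n : ℤ) {X : Cᵒᵖ} (z : (cochSheaf K L hR n).val.obj X) :
    toCoch hR (((pre hR a).f n).val.app X z) =
      (Cochain.ofHom (resCMap X.unop a)).comp (toCoch hR z) (zero_add n) := rfl

/-- Postcomposition in one degree. -/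
noncomputable def postN (b : L ⟶ L') (n : ℤ) : cochSheaf K L hR n ⟶ cochSheaf K L' hR n where
  val := PresheafOfModules.homMk
    { app := fun X => AddCommGrpCat.ofHom (AddMonoidHom.mk'
        (fun z : Cochain (resC X.unop K) (resC X.unop L) n =>
          z.comp (Cochain.ofHom (resCMap X.unop b)) (add_zero n))
        fun x y => Cochain.add_comp _ _ _ _)
      naturality := fun X Y g => AddCommGrpCat.hom_ext (AddMonoidHom.ext fun z =>
        (resCoch_comp_ofHom g.unop z (resCMap X.unop b) (resCMap Y.unop b)
          fun q => resHom_over g.unop (b.f q)).symm) }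
    fun X r z => Cochain.ext _ _ fun p q h => by
      change Cochain.v (Cochain.comp (Cochain.comp (show Cochain (resC X.unop K) (resC X.unop L) n from z)
          (Cochain.ofHom (scalC hR L r)) (add_zero n)) (Cochain.ofHom (resCMap X.unop b)) (add_zero n)) p q h =
        Cochain.v (Cochain.comp (Cochain.comp (show Cochain (resC X.unop K) (resC X.unop L) n from z)
          (Cochain.ofHom (resCMap X.unop b)) (add_zero n)) (Cochain.ofHom (scalC hR L' r)) (add_zero n)) p q h
      simp only [Cochain.comp_zero_cochain_v, Cochain.ofHom_v, scalC_f, Category.assoc]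
      exact congrArg _ (scal_comm hR r ((resCMap X.unop b).f q))

/-- Postcomposition. -/
noncomputable def post (b : L ⟶ L') : homCx K L hR ⟶ homCx K L' hR where
  f := postN hR b
  comm' i j hij := SheafOfModules.hom_ext (PresheafOfModules.hom_ext fun X => ModuleCat.hom_ext
    (LinearMap.ext fun z => by
      change ((homCx K L' hR).d i j).val.app X ((postN hR b i).val.app X z) =
        (postN hR b j).val.app X (((homCx K L hR).d i j).val.app X z)
      rw [homCx_d K L hR i j hij, homCx_d K L' hR i j hij]
      exact δ_comp_ofHom (toCoch hR z) (resCMap X.unop b) j))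

theorem post_apply (b : L ⟶ L') (n : ℤ) {X : Cᵒᵖ} (z : (cochSheaf K L hR n).val.obj X) :
    toCoch hR (((post hR b).f n).val.app X z) =
      (toCoch hR z).comp (Cochain.ofHom (resCMap X.unop b)) (add_zero n) := rfl

end Groth.Agent.Lib.EtMod.HomCx
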