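import Groth.Agent.Lib.EtMod.HomCx.TupExt
import Groth.Agent.Lib.EtMod.HomCx.Cochain
import Groth.Agent.H8.SpaceMV.Bound

/-!
# Sheaves of cochains into injective modules are acyclic on quasi-compact quasi-separated spaces
-/

set_option autoImplicit false
set_option backward.isDefEq.respectTransparency false
set_option backward.isDefEq.respectTransparency.types false
set_option linter.style.haveILetI false

universe u

open CategoryTheory CategoryTheory.Limits AlgebraicGeometry Opposite AlgSp Abelian CochainComplex.HomComplex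

namespace Groth.Agent.Lib.EtMod.HomCx

open H8.QCohVanish (Good covers)
open H8.SpaceMV (Fam famEquiv famEquiv_ZMap Z ZMap ZSp hPsh hMap shortExact_Z subsingleton_ext_X₃
  subsingleton_ext_of_affine)
open Lib.ProEt.Cochain (Tup Coch tupPsh face res δ_app)

variable {S : Scheme.{u}} {X : Sp S} (hR : IsComm (OEtRing X))
  (K L : CochainComplex (ModEt X) ℤ) [∀ q, Injective (L.X q)] (n : ℤ)

/-- The underlying abelian sheaf of cochains. -/
noncomputable abbrev cochAbEt : AbEt X := (toAbEt X).obj (cochSheaf K L hR n)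

/-- A component of a cochain, additively. -/
noncomputable def compo (p q : ℤ) (h : p + n = q) (E : EtOver X) :
    (cochAbEt hR K L n).obj.obj (op E) →+ HomOn (K.X p) (L.X q) E :=
  AddMonoidHom.mk' (fun z => Cochain.v (show Cochain (resC E K) (resC E L) n from z) p q h)
    fun _ _ => Cochain.add_v _ _ _ _ _

theorem compo_res {p q : ℤ} (h : p + n = q) {E E' : EtOver X} (g : E' ⟶ E)
    (z : (cochAbEt hR K L n).obj.obj (op E)) :
    compo hR K L n p q h E' ((cochAbEt hR K L n).obj.map g.op z) = resHom g (compo hR K L n p q h E z) :=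
  rfl

theorem coch_ext {E : EtOver X} {z z' : (cochAbEt hR K L n).obj.obj (op E)}
    (h : ∀ p q hpq, compo hR K L n p q hpq E z = compo hR K L n p q hpq E z') : z = z' :=
  Cochain.ext _ _ h

/-- A cochain from its components. -/
noncomputable def ofCompo {E : EtOver X} (v : ∀ p q, p + n = q → HomOn (K.X p) (L.X q) E) :
    (cochAbEt hR K L n).obj.obj (op E) :=
  show CochS K L hR n (op E) from (Cochain.mk v : Cochain (resC E K) (resC E L) n)

theorem compo_ofCompo {E : EtOver X} (v : ∀ p q, p + n = q → HomOn (K.X p) (L.X q) E) (p q : ℤ)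
    (h : p + n = q) : compo hR K L n p q h E (ofCompo hR K L n v) = v p q h := rfl

/-- Sheaves of cochains into injective modules are good. -/
theorem good_cochAbEt : Good (covers X) (cochAbEt hR K L n) := by
  intro P U c _ m x hx
  choose b hb hbx using fun (p q : ℤ) (h : p + n = q) =>
    exists_cech_family (F := K.X p) (I := L.X q) c
      (fun V t => compo hR K L n p q h V (x.app V t.down))
      (fun V W g t => (compo_res hR K L n h g (x.app V t.down)).symm.trans
        (congrArg (compo hR K L n p q h W) (x.naturality g t.down)).symm)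
      (fun V t => by
        have h1 := congrArg (compo hR K L n p q h V) (hx V t)
        rw [δ_app, map_sum, map_zero] at h1
        refine Eq.trans (Finset.sum_congr rfl fun i _ => ?_) h1
        rw [map_zsmul])
  refine ⟨⟨fun V t => ofCompo hR K L n fun p q h => b p q h V ⟨t⟩,
    fun g t => coch_ext hR K L n fun p q h => (hb p q h g ⟨t⟩).symm⟩,
    Coch.ext fun V t => coch_ext hR K L n fun p q h => ?_⟩
  rw [δ_app, map_sum]
  refine Eq.trans (Finset.sum_congr rfl fun i _ => ?_) (hbx p q h V t)
  rw [map_zsmul, compo_ofCompo]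

theorem injective_hMap {W W' : Sp S} {π : W ⟶ X} {π' : W' ⟶ X} (v : W ⟶ W') (hv : v ≫ π' = π) [Mono v]
    (E : (EtOver X)ᵒᵖ) : Function.Injective ((hMap v hv).app E) :=
  fun _ _ h => Subtype.ext ((cancel_mono v).1 (congrArg Subtype.val h))

/-- Families of cochains into injective modules extend along monomorphisms. -/
theorem surjective_comap {W W' : Sp S} {π : W ⟶ X} {π' : W' ⟶ X} (v : W ⟶ W') (hv : v ≫ π' = π) [Mono v]
    (a : Fam π (cochAbEt hR K L n)) : ∃ b : Fam π' (cochAbEt hR K L n), b.comap v hv = a := by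
  choose b hb hbx using fun (p q : ℤ) (h : p + n = q) =>
    exists_extend_family (F := K.X p) (I := L.X q) (hMap v hv) (injective_hMap v hv)
      (fun E g => compo hR K L n p q h E (a.app E g))
      (fun E E' k g => (compo_res hR K L n h k (a.app E g)).symm.trans
        (congrArg (compo hR K L n p q h E') (a.naturality k g)).symm)
  refine ⟨⟨fun E g => ofCompo hR K L n fun p q h => b p q h E g,
    fun k g => coch_ext hR K L n fun p q h => (hb p q h k g).symm⟩, ?_⟩
  ext E g
  exact coch_ext hR K L n fun p q h => hbx p q h E g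

/-- Good sheaves whose families extend along monomorphisms are acyclic on quasi-compact quasi-separated
spaces over the base. -/
theorem subsingleton_ext_space [QuasiSeparatedSpace ↥S] (Y : Space S) (hqc : IsQuasiCompactSp Y.obj)
    (hqs : IsQuasiSeparatedSp Y.obj) {G : AbEt Y.obj} (hG : Good (covers Y.obj) G)
    (hext : ∀ {W W' : Sp S} {π : W ⟶ Y.obj} {π' : W' ⟶ Y.obj} (v : W ⟶ W') (hv : v ≫ π' = π) [Mono v]
      (a : Fam π G), ∃ b : Fam π' G, b.comap v hv = a) :
    ∀ W : EtSpOver Y, IsQuasiCompactSp W.obj.left.obj → IsQuasiSeparatedSp W.obj.left.obj →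
      ∀ m : ℕ, Subsingleton (Ext.{u + 1} (ZSp W) G (m + 1)) := by
  refine Groth.Agent.S10766.result Y hqc hqs
    (fun W => ∀ m : ℕ, Subsingleton (Ext.{u + 1} (ZSp W) G (m + 1))) ?_ ?_
  · rintro W T hT ⟨e⟩ m
    exact subsingleton_ext_of_affine _ hT e
      (W.property e.hom (MorphismProperty.of_isIso (RepWith (S := S) @Etale) e.hom)) hG m
  · rintro W U V UV j f p q - - - ⟨T, hT, ⟨e⟩⟩ hsq hP hU hV hPn m
    have hq : q.hom.left.hom ≫ V.obj.hom.hom = UV.obj.hom.hom := congrArg (fun g => g.hom) (Over.w q.hom)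
    obtain ⟨h, hS⟩ := shortExact_Z (congrArg (fun g => g.hom) (Over.w j.hom))
      (congrArg (fun g => g.hom) (Over.w f.hom)) (congrArg (fun g => g.hom) (Over.w p.hom))
      hq hsq hP e V.obj.left.property W.obj.left.property
    rcases m with _ | k
    · haveI : Mono j.hom.left.hom := H8.EDSInduction.mono_openImm hsq.1
      haveI : Mono q.hom.left.hom := ⟨fun a b hab => hP.hom_ext ((cancel_mono j.hom.left.hom).1 (by
        rw [Category.assoc, Category.assoc, hP.w, ← Category.assoc, hab, Category.assoc])) hab⟩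
      refine subsingleton_of_forall_eq 0 fun x => ?_
      have h0 : ∀ y : Ext.{u + 1} (ZSp U ⊞ ZSp V) G 1, y = 0 := fun y => by
        have e' : y = (Ext.mk₀ biprod.fst).comp ((Ext.mk₀ biprod.inl).comp y (zero_add _)) (zero_add _) +
            (Ext.mk₀ biprod.snd).comp ((Ext.mk₀ biprod.inr).comp y (zero_add _)) (zero_add _) := by
          rw [Ext.mk₀_comp_mk₀_assoc, Ext.mk₀_comp_mk₀_assoc, ← Ext.add_comp, ← Ext.mk₀_add, biprod.total,
            Ext.mk₀_id_comp]
        rw [e', (hU 0).elim ((Ext.mk₀ biprod.inl).comp y (zero_add _)) 0,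
          (hV 0).elim ((Ext.mk₀ biprod.inr).comp y (zero_add _)) 0, Ext.comp_zero, Ext.comp_zero, add_zero]
      obtain ⟨y, rfl⟩ := Ext.contravariant_sequence_exact₃ hS G x (h0 _) (n₀ := 0) rfl
      obtain ⟨y, rfl⟩ := Ext.homEquiv₀.symm.surjective y
      obtain ⟨b, hb⟩ := hext q.hom.left.hom hq (famEquiv _ G y)
      have hy : y = biprod.lift (ZMap p.hom.left.hom (congrArg (fun g => g.hom) (Over.w p.hom)))
          (-(ZMap q.hom.left.hom hq)) ≫ (-(biprod.snd ≫ (famEquiv _ G).symm b)) := by
        rw [Preadditive.comp_neg, ← Category.assoc, biprod.lift_snd, Preadditive.neg_comp, neg_neg]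
        refine (famEquiv _ G).injective ?_
        rw [famEquiv_ZMap, Equiv.apply_symm_apply, hb]
      change hS.extClass.comp (Ext.mk₀ y) _ = 0
      rw [hy, ← Ext.mk₀_comp_mk₀, ← Ext.comp_assoc (a₁₂ := 1) (a₂₃ := 0) hS.extClass _ _ (add_zero 1) (zero_add 0) (by omega)]
      rw [hS.extClass_comp, Ext.zero_comp]
    · exact subsingleton_ext_X₃ hS (k + 1) (hPn k) (hU _) (hV _)

/-- Cochains into injective modules are acyclic on quasi-compact quasi-separated spaces. -/
theorem subsingleton_ext_cochAbEt [QuasiSeparatedSpace ↥S] (Y : Space S) (hqc : IsQuasiCompactSp Y.obj)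
    (hqs : IsQuasiSeparatedSp Y.obj) (hR : IsComm (OEtRing Y.obj)) (K L : CochainComplex (ModEt Y.obj) ℤ)
    [∀ q, Injective (L.X q)] (n : ℤ) (W : EtSpOver Y) (hWc : IsQuasiCompactSp W.obj.left.obj)
    (hWs : IsQuasiSeparatedSp W.obj.left.obj) (m : ℕ) :
    Subsingleton (Ext.{u + 1} (ZSp W) (cochAbEt hR K L n) (m + 1)) :=
  subsingleton_ext_space Y hqc hqs (good_cochAbEt hR K L n)
    (fun v hv => surjective_comap hR K L n v hv) W hWc hWs m

end Groth.Agent.Lib.EtMod.HomCx
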