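import Mathlib.Algebra.Category.ModuleCat.Sheaf.PushforwardContinuous
import Mathlib.Algebra.Category.ModuleCat.Sheaf.Abelian
import Mathlib.CategoryTheory.Sites.SheafHom

/-!
# Morphisms between restrictions of sheaves of modules over a commutative ring sheaf

Restriction of morphisms along maps of the site, gluing, and the scalar endomorphisms.
-/

set_option autoImplicit false
set_option backward.isDefEq.respectTransparency false
set_option backward.isDefEq.respectTransparency.types false

universe u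

open CategoryTheory CategoryTheory.Limits Opposite

namespace Groth.Agent.Lib.EtMod.HomCx

variable {C : Type (u + 1)} [Category.{u} C] {J : GrothendieckTopology C}
  {R : Sheaf J RingCat.{u + 1}}

/-- The values of the ring sheaf are commutative. -/
def IsComm (R : Sheaf J RingCat.{u + 1}) : Prop :=
  ∀ (X : C) (a b : R.obj.obj (op X)), a * b = b * a

/-- Morphisms between restrictions. -/
abbrev HomOn (F G : SheafOfModules.{u + 1} R) (X : C) : Type (u + 1) := F.over X ⟶ G.over X

variable {F G H : SheafOfModules.{u + 1} R}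

/-- Evaluation of a morphism of restrictions on an arrow. -/
noncomputable def ev {X T : C} (φ : HomOn F G X) (h : T ⟶ X) :
    F.val.obj (op T) →+ G.val.obj (op T) :=
  (φ.val.app (op (Over.mk h))).hom.toAddMonoidHom

theorem ev_ext {X : C} {φ ψ : HomOn F G X}
    (h : ∀ (T : C) (a : T ⟶ X) (s : F.val.obj (op T)), ev φ a s = ev ψ a s) : φ = ψ :=
  SheafOfModules.hom_ext (PresheafOfModules.hom_ext fun U => ModuleCat.hom_ext
    (LinearMap.ext fun s => h U.unop.left U.unop.hom s))

theorem ev_smul {X T : C} (φ : HomOn F G X) (a : T ⟶ X) (r : R.obj.obj (op T))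
    (s : F.val.obj (op T)) : ev φ a (r • s) = r • ev φ a s :=
  (φ.val.app (op (Over.mk a))).hom.map_smul r s

theorem ev_map {X T T' : C} (φ : HomOn F G X) (g : T' ⟶ T) (a : T ⟶ X) (s : F.val.obj (op T)) :
    ev φ (g ≫ a) (F.val.map g.op s) = G.val.map g.op (ev φ a s) :=
  PresheafOfModules.naturality_apply φ.val (Over.homMk g : Over.mk (g ≫ a) ⟶ Over.mk a).op s

theorem ev_comp {X T : C} (φ : HomOn F G X) (ψ : HomOn G H X) (a : T ⟶ X) (s : F.val.obj (op T)) :
    ev (φ ≫ ψ) a s = ev ψ a (ev φ a s) := rfl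

theorem ev_add {X T : C} (φ ψ : HomOn F G X) (a : T ⟶ X) (s : F.val.obj (op T)) :
    ev (φ + ψ) a s = ev φ a s + ev ψ a s := rfl

theorem ev_zero {X T : C} (a : T ⟶ X) (s : F.val.obj (op T)) : ev (0 : HomOn F G X) a s = 0 := rfl

theorem ev_over {X T : C} (φ : F ⟶ G) (a : T ⟶ X) (s : F.val.obj (op T)) :
    ev ((SheafOfModules.overFunctor R X).map φ) a s = φ.val.app (op T) s := rfl

/-- A morphism of restrictions from its values. -/
noncomputable def mkHom {X : C} (e : ∀ (T : C), (T ⟶ X) → F.val.obj (op T) →+ G.val.obj (op T))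
    (hsmul : ∀ (T : C) (a : T ⟶ X) (r : R.obj.obj (op T)) (s : F.val.obj (op T)),
      e T a (r • s) = r • e T a s)
    (hnat : ∀ (T T' : C) (g : T' ⟶ T) (a : T ⟶ X) (s : F.val.obj (op T)),
      e T' (g ≫ a) (F.val.map g.op s) = G.val.map g.op (e T a s)) : HomOn F G X where
  val :=
    { app := fun U => ModuleCat.ofHom (X := (F.over X).val.obj U) (Y := (G.over X).val.obj U)
        { toFun := e U.unop.left U.unop.hom
          map_add' := map_add (e U.unop.left U.unop.hom)
          map_smul' := hsmul U.unop.left U.unop.hom }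
      naturality := fun {U V} g => by
        refine ModuleCat.hom_ext (LinearMap.ext fun s => ?_)
        have h := hnat _ _ g.unop.left U.unop.hom s
        have hw : g.unop.left ≫ U.unop.hom = V.unop.hom := Over.w g.unop
        rw [hw] at h
        exact h }

theorem ev_mkHom {X : C} (e : ∀ (T : C), (T ⟶ X) → F.val.obj (op T) →+ G.val.obj (op T))
    (hsmul : ∀ (T : C) (a : T ⟶ X) (r : R.obj.obj (op T)) (s : F.val.obj (op T)),
      e T a (r • s) = r • e T a s)
    (hnat : ∀ (T T' : C) (g : T' ⟶ T) (a : T ⟶ X) (s : F.val.obj (op T)),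
      e T' (g ≫ a) (F.val.map g.op s) = G.val.map g.op (e T a s))
    {T : C} (a : T ⟶ X) (s : F.val.obj (op T)) : ev (mkHom e hsmul hnat) a s = e T a s := rfl

/-- Restriction of morphisms along a map of the site. -/
noncomputable def resHom {X Y : C} (g : Y ⟶ X) : HomOn F G X →+ HomOn F G Y where
  toFun φ := mkHom (fun T a => ev φ (a ≫ g)) (fun T a r s => ev_smul φ (a ≫ g) r s)
    fun T T' k a s => by rw [Category.assoc]; exact ev_map φ k (a ≫ g) s
  map_zero' := ev_ext fun _ _ _ => rfl
  map_add' _ _ := ev_ext fun _ _ _ => rfl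

theorem ev_resHom {X Y T : C} (g : Y ⟶ X) (φ : HomOn F G X) (a : T ⟶ Y) (s : F.val.obj (op T)) :
    ev (resHom g φ) a s = ev φ (a ≫ g) s := rfl

theorem resHom_id {X : C} (φ : HomOn F G X) : resHom (𝟙 X) φ = φ :=
  ev_ext fun T a s => by rw [ev_resHom, Category.comp_id]

theorem resHom_comp {X Y Z : C} (g : Y ⟶ X) (k : Z ⟶ Y) (φ : HomOn F G X) :
    resHom (k ≫ g) φ = resHom k (resHom g φ) :=
  ev_ext fun T a s => by rw [ev_resHom, ev_resHom, ev_resHom, Category.assoc]

theorem resHom_compHom {X Y : C} (g : Y ⟶ X) (φ : HomOn F G X) (ψ : HomOn G H X) :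
    resHom g (φ ≫ ψ) = resHom g φ ≫ resHom g ψ :=
  ev_ext fun _ _ _ => rfl

theorem resHom_over {X Y : C} (g : Y ⟶ X) (φ : F ⟶ G) :
    resHom g ((SheafOfModules.overFunctor R X).map φ) = (SheafOfModules.overFunctor R Y).map φ :=
  ev_ext fun _ _ _ => rfl

theorem resHom_zsmul {X Y : C} (g : Y ⟶ X) (n : ℤ) (φ : HomOn F G X) :
    resHom g (n • φ) = n • resHom g φ :=
  map_zsmul _ n φ

/-- Multiplication by a function. -/
noncomputable def scal (hR : IsComm R) (G : SheafOfModules.{u + 1} R) {X : C}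
    (r : R.obj.obj (op X)) : HomOn G G X :=
  mkHom (fun T a => DistribSMul.toAddMonoidHom _ ((R.obj.map a.op).hom r))
    (fun T a c s => by
      change (R.obj.map a.op).hom r • c • s = c • (R.obj.map a.op).hom r • s
      rw [smul_smul, smul_smul, hR T])
    fun T T' g a s => by
      change (R.obj.map (g ≫ a).op).hom r • G.val.map g.op s = G.val.map g.op ((R.obj.map a.op).hom r • s)
      rw [PresheafOfModules.map_smul, op_comp, Functor.map_comp]
      rfl

theorem ev_scal (hR : IsComm R) {X T : C} (r : R.obj.obj (op X)) (a : T ⟶ X) (s : G.val.obj (op T)) :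
    ev (scal hR G r) a s = (R.obj.map a.op).hom r • s := rfl

theorem scal_one (hR : IsComm R) (X : C) : scal hR G (1 : R.obj.obj (op X)) = 𝟙 (G.over X) :=
  ev_ext fun T a s => by rw [ev_scal, map_one, one_smul]; rfl

theorem scal_mul (hR : IsComm R) {X : C} (r r' : R.obj.obj (op X)) :
    scal hR G (r * r') = scal hR G r' ≫ scal hR G r :=
  ev_ext fun T a s => by rw [ev_comp, ev_scal, ev_scal, ev_scal, map_mul, mul_smul]

theorem scal_add (hR : IsComm R) {X : C} (r r' : R.obj.obj (op X)) :
    scal hR G (r + r') = scal hR G r + scal hR G r' :=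
  ev_ext fun T a s => by rw [ev_add, ev_scal, ev_scal, ev_scal, map_add, add_smul]

theorem scal_zero (hR : IsComm R) (X : C) : scal hR G (0 : R.obj.obj (op X)) = 0 :=
  ev_ext fun T a s => by rw [ev_zero, ev_scal, map_zero, zero_smul]

theorem scal_comm (hR : IsComm R) {X : C} (r : R.obj.obj (op X)) (φ : HomOn F G X) :
    scal hR F r ≫ φ = φ ≫ scal hR G r :=
  ev_ext fun T a s => by rw [ev_comp, ev_comp, ev_scal, ev_scal, ev_smul]

theorem resHom_scal (hR : IsComm R) {X Y : C} (g : Y ⟶ X) (r : R.obj.obj (op X)) :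
    resHom g (scal hR G r) = scal hR G ((R.obj.map g.op).hom r) :=
  ev_ext fun T a s => by
    rw [ev_resHom, ev_scal, ev_scal, op_comp, Functor.map_comp]
    rfl

/-! ### Gluing -/

theorem isSeparated_forget (M : SheafOfModules.{u + 1} R) {X : C} {S : Sieve X} (hS : S ∈ J X)
    {m m' : M.val.obj (op X)}
    (h : ∀ ⦃Y : C⦄ (f : Y ⟶ X), S f → M.val.map f.op m = M.val.map f.op m') : m = m' :=
  (((isSheaf_iff_isSheaf_of_type _ _).1 (Presheaf.isSheaf_comp_of_isSheaf J M.val.presheaf
    (CategoryTheory.forget AddCommGrpCat.{u + 1}) M.isSheaf)).isSeparated S hS).ext h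

theorem hom_ext_of_cover {X : C} {S : Sieve X} (hS : S ∈ J X) {φ ψ : HomOn F G X}
    (h : ∀ ⦃Y : C⦄ (f : Y ⟶ X), S f → resHom f φ = resHom f ψ) : φ = ψ := by
  refine ev_ext fun T a s => isSeparated_forget G (J.pullback_stable a hS) fun Z k hk => ?_
  rw [← ev_map, ← ev_map]
  have := congrArg (fun η => ev η (𝟙 Z) (F.val.map k.op s)) (h (k ≫ a) hk)
  simpa only [ev_resHom, Category.id_comp] using this

/-- Morphisms glue. -/
theorem exists_glue_hom {X : C} {S : Sieve X} (hS : S ∈ J X)
    (φ : ∀ ⦃Y : C⦄ (f : Y ⟶ X), S f → HomOn F G Y)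
    (hφ : ∀ ⦃Y Z : C⦄ (k : Z ⟶ Y) (f : Y ⟶ X) (hf : S f),
      φ (k ≫ f) (S.downward_closed hf k) = resHom k (φ f hf)) :
    ∃ ψ : HomOn F G X, ∀ ⦃Y : C⦄ (f : Y ⟶ X) (hf : S f), resHom f ψ = φ f hf := by
  have hsh : Presieve.IsSheaf J (presheafHom F.val.presheaf G.val.presheaf) :=
    (isSheaf_iff_isSheaf_of_type _ _).1 (Presheaf.IsSheaf.hom F.val.presheaf G.val.presheaf G.isSheaf)
  let x : Presieve.FamilyOfElements (presheafHom F.val.presheaf G.val.presheaf) S.arrows :=
    fun Y f hf => (PresheafOfModules.toPresheaf _).map (φ f hf).val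
  have hx : x.Compatible := by
    rw [Presieve.compatible_iff_sieveCompatible]
    intro Y Z f k hf
    change (PresheafOfModules.toPresheaf _).map (φ (k ≫ f) _).val = _
    rw [hφ k f hf]
    rfl
  obtain ⟨t, ht, -⟩ := hsh S hS x hx
  have happ : ∀ ⦃T Y : C⦄ (f : Y ⟶ X) (hf : S f) (a : T ⟶ Y) (s : F.val.obj (op T)),
      t.app (op (Over.mk (a ≫ f))) s = ev (φ f hf) a s := fun T Y f hf a s => by
    have h1 := congrArg (fun η : (presheafHom F.val.presheaf G.val.presheaf).obj (op Y) =>
      η.app (op (Over.mk a)) s) (ht f hf)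
    exact h1
  have hnat : ∀ (T T' : C) (g : T' ⟶ T) (a : T ⟶ X) (s : F.val.obj (op T)),
      t.app (op (Over.mk (g ≫ a))) (F.val.map g.op s) = G.val.map g.op (t.app (op (Over.mk a)) s) :=
    fun T T' g a s => ConcreteCategory.congr_hom
      (t.naturality (Over.homMk g : Over.mk (g ≫ a) ⟶ Over.mk a).op) s
  refine ⟨mkHom (fun T a => (t.app (op (Over.mk a))).hom) (fun T a r s => ?_) hnat,
    fun Y f hf => ev_ext fun T a s => happ f hf a s⟩
  refine isSeparated_forget G (J.pullback_stable a hS) fun Z k hk => ?_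
  change G.val.map k.op (t.app (op (Over.mk a)) (r • s)) =
    G.val.map k.op (r • (show G.val.obj (op T) from t.app (op (Over.mk a)) s))
  rw [← hnat, PresheafOfModules.map_smul G.val, ← hnat]
  have h1 := happ (k ≫ a) hk (𝟙 Z)
  rw [Category.id_comp] at h1
  rw [h1, h1, PresheafOfModules.map_smul F.val, ev_smul]

end Groth.Agent.Lib.EtMod.HomCx
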