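import Groth.Agent.Lib.EtMod.HomCx.Strict

/-!
# Cochains into a module placed in one degree, in coordinates
-/

set_option autoImplicit false
set_option backward.isDefEq.respectTransparency false
set_option backward.isDefEq.respectTransparency.types false
set_option linter.style.haveILetI false

universe u

open CategoryTheory CategoryTheory.Limits Opposite CochainComplex.HomComplex

namespace Groth.Agent.Lib.EtMod.HomCx

variable {C : Type (u + 1)} [Category.{u} C] {J : GrothendieckTopology C}
  {R : Sheaf J RingCat.{u + 1}} [HasSheafify J AddCommGrpCat.{u + 1}]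
  [J.WEqualsLocallyBijective AddCommGrpCat.{u + 1}] (hR : IsComm R)

variable {E L : CochainComplex (SheafOfModules.{u + 1} R) ℤ}

theorem isZero_over {F : SheafOfModules.{u + 1} R} (hF : IsZero F) (X : C) : IsZero (F.over X) :=
  Functor.map_isZero (SheafOfModules.overFunctor R X) hF

/-- Cochains vanishing because source or target vanish. -/
theorem cochain_ext_single {n : ℤ} (hL : ∀ q : ℤ, q ≠ 0 → IsZero (L.X q)) {X : C}
    {z z' : Cochain (resC X E) (resC X L) n}
    (h : z.v (-n) 0 (neg_add_cancel n) = z'.v (-n) 0 (neg_add_cancel n)) : z = z' := by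
  refine Cochain.ext _ _ fun p q hpq => ?_
  by_cases hq : q = 0
  · subst hq
    obtain rfl : p = -n := by omega
    exact h
  · exact (isZero_over (hL q hq) X).eq_of_tgt _ _

/-- The sheaf of cochains in degree `n` vanishes when all its components do. -/
theorem isZero_cochSheaf {n : ℤ} (h : ∀ p q : ℤ, p + n = q → IsZero (E.X p) ∨ IsZero (L.X q)) :
    IsZero ((homCx E L hR).X n) := by
  rw [IsZero.iff_id_eq_zero]
  refine SheafOfModules.hom_ext (PresheafOfModules.hom_ext fun X => ModuleCat.hom_ext
    (LinearMap.ext fun z => Cochain.ext _ _ fun p q hpq => ?_))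
  rcases h p q hpq with hp | hq
  · exact (isZero_over hp X.unop).eq_of_src _ _
  · exact (isZero_over hq X.unop).eq_of_tgt _ _

variable {n : ℤ} (φ : FinFrame (E.X (-n)))

/-- A coordinate of cochains. -/
noncomputable def coordHom (j : Fin φ.n) : (homCx E L hR).X n ⟶ L.X 0 where
  val := PresheafOfModules.homMk
    { app := fun X => AddCommGrpCat.ofHom (AddMonoidHom.mk'
        (fun z : Cochain (resC X.unop E) (resC X.unop L) n =>
          ev (F := E.X (-n)) (G := L.X 0) (z.v (-n) 0 (neg_add_cancel n)) (𝟙 X.unop) ((φ.e j).eval X))
        fun z z' => by rw [Cochain.add_v]; rfl)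
      naturality := fun X Y g => AddCommGrpCat.hom_ext (AddMonoidHom.ext fun z => by
        let r : HomOn (E.X (-n)) (L.X 0) X.unop :=
          Cochain.v (show Cochain (resC X.unop E) (resC X.unop L) n from z) (-n) 0 (neg_add_cancel n)
        change ev (resHom g.unop r) (𝟙 Y.unop) ((φ.e j).eval Y) =
          (L.X 0).val.map g.unop.op (ev r (𝟙 X.unop) ((φ.e j).eval X))
        rw [ev_resHom, Category.id_comp, ← ev_map, Category.comp_id]
        exact congrArg _ ((φ.e j).property g).symm) }
    fun X c z => by
      change ev (F := E.X (-n)) (G := L.X 0) ((Cochain.comp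
        (show Cochain (resC X.unop E) (resC X.unop L) n from z)
        (Cochain.ofHom (scalC hR L c)) (add_zero n)).v (-n) 0 (neg_add_cancel n)) _ _ = _
      rw [Cochain.comp_zero_cochain_v, Cochain.ofHom_v, scalC_f, ev_comp, ev_scal]
      refine congrArg (fun r : R.obj.obj X => r • _) ?_
      exact ConcreteCategory.congr_hom (R.obj.map_id X) c

/-- A coordinate inclusion into cochains. -/
noncomputable def coordInc (hL : ∀ q : ℤ, q ≠ 0 → IsZero (L.X q)) (j : Fin φ.n) :
    L.X 0 ⟶ (homCx E L hR).X n where
  val := PresheafOfModules.homMk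
    { app := fun X => AddCommGrpCat.ofHom (AddMonoidHom.mk'
        (fun s : (L.X 0).val.obj X => (show CochS E L hR n X from Cochain.single
          (show (resC X.unop E).X (-n) ⟶ (resC X.unop L).X 0 from
            φ.combHom (fun i => if i = j then s else 0)) n))
        fun s t => cochain_ext_single hL (by
          change (Cochain.single _ n).v (-n) 0 _ = (Cochain.single _ n + Cochain.single _ n).v (-n) 0 _
          rw [Cochain.add_v, Cochain.single_v, Cochain.single_v, Cochain.single_v]
          refine ev_ext (F := E.X (-n)) (G := L.X 0) fun T a x => ?_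
          rw [ev_add, φ.ev_combHom, φ.ev_combHom, φ.ev_combHom, ← Finset.sum_add_distrib]
          refine Finset.sum_congr rfl fun i _ => ?_
          rw [← smul_add]
          refine congrArg _ ?_
          split_ifs
          · exact map_add ((L.X 0).val.map a.op).hom s t
          · exact (map_zero ((L.X 0).val.map a.op).hom).trans
              (((congrArg₂ (· + ·) (map_zero ((L.X 0).val.map a.op).hom)
                (map_zero ((L.X 0).val.map a.op).hom))).trans (add_zero _)).symm))
      naturality := fun X Y g => AddCommGrpCat.hom_ext (AddMonoidHom.ext fun s =>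
        cochain_ext_single hL (by
          change (Cochain.single _ n).v (-n) 0 _ = (resCoch g.unop n (Cochain.single _ n)).v (-n) 0 _
          rw [resCoch_v, Cochain.single_v, Cochain.single_v]
          refine ev_ext (F := E.X (-n)) (G := L.X 0) fun T a x => ?_
          rw [φ.ev_combHom, ev_resHom, φ.ev_combHom]
          refine Finset.sum_congr rfl fun i _ => congrArg _ ?_
          split_ifs
          · exact (res_comp g.unop a s).symm
          · exact (map_zero ((L.X 0).val.map a.op).hom).trans
              (map_zero ((L.X 0).val.map (a ≫ g.unop).op).hom).symm)) }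
    fun X c s => cochain_ext_single hL (by
      change (Cochain.single _ n).v (-n) 0 _ = (Cochain.comp (Cochain.single _ n)
        (Cochain.ofHom (scalC hR L c)) (add_zero n)).v (-n) 0 _
      rw [Cochain.comp_zero_cochain_v, Cochain.ofHom_v, scalC_f, Cochain.single_v, Cochain.single_v]
      refine ev_ext (F := E.X (-n)) (G := L.X 0) fun T a x => ?_
      rw [ev_comp, ev_scal, φ.ev_combHom, φ.ev_combHom, Finset.smul_sum]
      refine Finset.sum_congr rfl fun i _ => ?_
      rw [smul_smul, hR T, mul_smul]
      refine congrArg _ ?_
      split_ifs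
      · exact PresheafOfModules.map_smul (L.X 0).val a.op c s
      · exact (map_zero ((L.X 0).val.map a.op).hom).trans
          ((congrArg (fun w : (L.X 0).val.obj (op T) => (R.obj.map a.op).hom c • w)
            (map_zero ((L.X 0).val.map a.op).hom)).trans (smul_zero _)).symm)

/-- Cochains are recovered from their coordinates. -/
theorem sum_coord_eq (hL : ∀ q : ℤ, q ≠ 0 → IsZero (L.X q)) {X : Cᵒᵖ}
    (z : ((homCx E L hR).X n).val.obj X) :
    ∑ j, (coordInc hR φ hL j).val.app X ((coordHom hR φ j).val.app X z) = z := by
  refine cochain_ext_single hL ?_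
  let ψ : ((homCx E L hR).X n).val.obj X →+ HomOn (E.X (-n)) (L.X 0) X.unop :=
    AddMonoidHom.mk' (fun w => Cochain.v (show Cochain (resC X.unop E) (resC X.unop L) n from w) (-n) 0
      (neg_add_cancel n)) fun w w' => Cochain.add_v _ _ _ _ _
  refine ((map_sum ψ (fun j => (coordInc hR φ hL j).val.app X ((coordHom hR φ j).val.app X z)) Finset.univ).trans
    (ev_ext fun T a x => ?_) : _ = ψ z)
  let r : HomOn (E.X (-n)) (L.X 0) X.unop := ψ z
  let evA : HomOn (E.X (-n)) (L.X 0) X.unop →+ (L.X 0).val.obj (op T) :=
    AddMonoidHom.mk' (fun w => ev w a x) fun w w' => ev_add w w' a x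
  refine (map_sum evA (fun j => ψ ((coordInc hR φ hL j).val.app X ((coordHom hR φ j).val.app X z))) Finset.univ).trans ?_
  change _ = ev r a x
  rw [φ.ev_eq_sum r a x]
  refine Finset.sum_congr rfl fun j _ => ?_
  refine Eq.trans (congrArg (fun w : HomOn (E.X (-n)) (L.X 0) X.unop => ev w a x)
    (Cochain.single_v _ n (neg_add_cancel n))) ?_
  rw [φ.ev_combHom, Finset.sum_eq_single j]
  · rw [if_pos rfl]
    rfl
  · intro i _ hi
    rw [if_neg hi]
    exact (congrArg (fun w : (L.X 0).val.obj (op T) => φ.coord i T x • w)
      (map_zero ((L.X 0).val.map a.op).hom)).trans (smul_zero _)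
  · exact fun h => absurd (Finset.mem_univ _) h

end Groth.Agent.Lib.EtMod.HomCx
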