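import Mathlib.Algebra.Category.ModuleCat.Presheaf.Pushforward
import Mathlib.Algebra.Category.ModuleCat.Presheaf.EpiMono
import Mathlib.Algebra.Category.ModuleCat.Presheaf.Abelian
import Mathlib.Algebra.Category.ModuleCat.Presheaf.PushforwardZeroMonoidal
import Mathlib.Algebra.Category.ModuleCat.Sheaf.PushforwardContinuous
import Mathlib.Algebra.Category.ModuleCat.Presheaf.Sheafification
import Mathlib.CategoryTheory.Preadditive.Injective.Basic
import Mathlib.CategoryTheory.Comma.Over.Basic
import Mathlib.CategoryTheory.Sites.Over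
import Mathlib.Algebra.DirectSum.Module

/-!
# Extension by zero of presheaves of modules on a large site; restrictions of injective modules

`(E R U).obj P` sends `V` to `⨁ φ : V ⟶ U, P (φ)`; it is left adjoint to restriction and preserves
monomorphisms, so restrictions of injective modules to slices are injective.
-/

set_option autoImplicit false

universe u

open CategoryTheory Opposite
open scoped DirectSum

namespace Groth.Agent.Lib.EtMod.HomCx.ExtendZero


variable {C : Type (u + 1)} [Category.{u} C] {R : Cᵒᵖ ⥤ RingCat.{u + 1}} {U : C}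

/-- Presheaves of modules on `C/U`. -/
abbrev PMU (R : Cᵒᵖ ⥤ RingCat.{u + 1}) (U : C) :=
  PresheafOfModules.{u + 1} ((Over.forget U).op ⋙ R)

/-- Restriction to `C/U`. -/
noncomputable abbrev restrP (R : Cᵒᵖ ⥤ RingCat.{u + 1}) (U : C) :
    PresheafOfModules.{u + 1} R ⥤ PMU R U :=
  PresheafOfModules.pushforward₀ (Over.forget U) R

/-- The sections of `P` at `φ : V ⟶ U`. -/
abbrev Fib (P : PMU R U) {V : Cᵒᵖ} (φ : V.unop ⟶ U) : Type (u + 1) := P.obj (op (Over.mk φ))

noncomputable instance fibModule (P : PMU R U) {V : Cᵒᵖ} (φ : V.unop ⟶ U) :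
    Module (R.obj V) (Fib P φ) :=
  (P.obj (op (Over.mk φ))).isModule

/-- Restriction maps of `P` between fibres. -/
noncomputable def fres (P : PMU R U) {V W : Cᵒᵖ} (g : V ⟶ W) (ψ : V.unop ⟶ U) (φ : W.unop ⟶ U)
    (h : g.unop ≫ ψ = φ) : Fib P ψ →+ Fib P φ :=
  (P.presheaf.map (Over.homMk (U := Over.mk φ) (V := Over.mk ψ) g.unop h).op).hom

lemma fres_smul (P : PMU R U) {V W : Cᵒᵖ} (g : V ⟶ W) (ψ : V.unop ⟶ U) (φ : W.unop ⟶ U)
    (h : g.unop ≫ ψ = φ) (r : R.obj V) (x : Fib P ψ) :
    fres P g ψ φ h (r • x) = (R.map g).hom r • fres P g ψ φ h x :=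
  P.map_smul (Over.homMk (U := Over.mk φ) (V := Over.mk ψ) g.unop h).op r x

lemma fres_id (P : PMU R U) {V : Cᵒᵖ} (ψ : V.unop ⟶ U) (h : (𝟙 V : V ⟶ V).unop ≫ ψ = ψ)
    (x : Fib P ψ) : fres P (𝟙 V) ψ ψ h x = x := by
  have : (Over.homMk (U := Over.mk ψ) (V := Over.mk ψ) (𝟙 V : V ⟶ V).unop h).op = 𝟙 _ := rfl
  exact (congrArg (fun m => (P.presheaf.map m).hom x) this).trans
    (ConcreteCategory.congr_hom (P.presheaf.map_id _) x)

lemma fres_fres (P : PMU R U) {V W Z : Cᵒᵖ} (g : V ⟶ W) (g' : W ⟶ Z) (ψ : V.unop ⟶ U)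
    (φ : W.unop ⟶ U) (χ : Z.unop ⟶ U) (h : g.unop ≫ ψ = φ) (h' : g'.unop ≫ φ = χ)
    (h'' : (g ≫ g').unop ≫ ψ = χ) (x : Fib P ψ) :
    fres P (g ≫ g') ψ χ h'' x = fres P g' φ χ h' (fres P g ψ φ h x) := by
  have : (Over.homMk (U := Over.mk χ) (V := Over.mk ψ) (g ≫ g').unop h'').op =
      (Over.homMk (U := Over.mk φ) (V := Over.mk ψ) g.unop h).op ≫
        (Over.homMk (U := Over.mk χ) (V := Over.mk φ) g'.unop h').op := rfl
  simp only [fres, this, Functor.map_comp]
  rfl

lemma fres_app {P Q : PMU R U} (f : P ⟶ Q) {V W : Cᵒᵖ} (g : V ⟶ W) (ψ : V.unop ⟶ U)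
    (φ : W.unop ⟶ U) (h : g.unop ≫ ψ = φ) (x : Fib P ψ) :
    f.app _ (fres P g ψ φ h x) = fres Q g ψ φ h (f.app _ x) :=
  PresheafOfModules.naturality_apply f _ x

/-- The underlying module at `V`. -/
abbrev Sec (P : PMU R U) (V : Cᵒᵖ) : Type (u + 1) := ⨁ φ : V.unop ⟶ U, Fib P φ

/-- The summand inclusion. -/
noncomputable def inc (P : PMU R U) {V : Cᵒᵖ} (φ : V.unop ⟶ U) :
    Fib P φ →ₗ[R.obj V] Sec P V :=
  letI := Classical.decEq (V.unop ⟶ U)
  DirectSum.lof (R.obj V) _ _ φ

lemma sec_ext (P : PMU R U) {V : Cᵒᵖ} {A : Type*} [AddCommGroup A] {f g : Sec P V →+ A}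
    (h : ∀ (φ : V.unop ⟶ U) (x : Fib P φ), f (inc P φ x) = g (inc P φ x)) : f = g :=
  letI := Classical.decEq (V.unop ⟶ U)
  DirectSum.addHom_ext h

lemma inc_congr (P : PMU R U) {V W : Cᵒᵖ} (g : V ⟶ W) (ψ : V.unop ⟶ U) {φ φ' : W.unop ⟶ U}
    (h : g.unop ≫ ψ = φ) (h' : g.unop ≫ ψ = φ') (x : Fib P ψ) :
    inc P φ (fres P g ψ φ h x) = inc P φ' (fres P g ψ φ' h' x) := by
  obtain rfl : φ = φ' := h.symm.trans h'
  rfl

/-- The restriction map. -/
noncomputable def secMap (P : PMU R U) {V W : Cᵒᵖ} (g : V ⟶ W) : Sec P V →+ Sec P W :=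
  letI := Classical.decEq (V.unop ⟶ U)
  DirectSum.toAddMonoid fun ψ => (inc P (g.unop ≫ ψ)).toAddMonoidHom.comp (fres P g ψ _ rfl)

lemma secMap_inc (P : PMU R U) {V W : Cᵒᵖ} (g : V ⟶ W) (ψ : V.unop ⟶ U) (φ : W.unop ⟶ U)
    (h : g.unop ≫ ψ = φ) (x : Fib P ψ) :
    secMap P g (inc P ψ x) = inc P φ (fres P g ψ φ h x) := by
  subst h
  let _ := Classical.decEq (V.unop ⟶ U)
  exact DirectSum.toAddMonoid_of _ ψ x

/-- The underlying abelian presheaf. -/
noncomputable def absheaf (P : PMU R U) : Cᵒᵖ ⥤ AddCommGrpCat.{u + 1} where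
  obj V := .of (Sec P V)
  map g := AddCommGrpCat.ofHom (secMap P g)
  map_id V := by
    refine AddCommGrpCat.hom_ext (sec_ext P fun φ x => ?_)
    exact (secMap_inc P (𝟙 V) φ φ (by simp) x).trans (congrArg _ (fres_id P φ _ x))
  map_comp {V W Z} g g' := by
    refine AddCommGrpCat.hom_ext (sec_ext P fun ψ x => ?_)
    have h1 := secMap_inc P g ψ _ rfl x
    have h2 := secMap_inc P (g ≫ g') ψ (g'.unop ≫ (g.unop ≫ ψ)) (by simp) x
    refine h2.trans ((congrArg _ (fres_fres P g g' ψ _ _ rfl rfl _ x)).trans ?_)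
    exact ((congrArg (secMap P g') h1).trans (secMap_inc P g' _ _ rfl _)).symm

noncomputable instance absheafModule (P : PMU R U) (V : Cᵒᵖ) :
    Module (R.obj V) ((absheaf P).obj V) :=
  inferInstanceAs (Module (R.obj V) (Sec P V))

lemma secMap_smul (P : PMU R U) {V W : Cᵒᵖ} (g : V ⟶ W) (r : R.obj V) (z : Sec P V) :
    secMap P g (r • z) = (R.map g).hom r • secMap P g z := by
  let _ := Classical.decEq (V.unop ⟶ U)
  induction z using DirectSum.induction_on with
  | zero => simp
  | of φ x =>
    change secMap P g (r • inc P φ x) = _ • secMap P g (inc P φ x)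
    rw [← map_smul, secMap_inc P g φ _ rfl, secMap_inc P g φ _ rfl, fres_smul, map_smul]
  | add a b ha hb => simp only [smul_add, map_add, ha, hb]

/-- Extension by zero on objects. -/
noncomputable def EObj (P : PMU R U) :
    PresheafOfModules.{u + 1} R :=
  PresheafOfModules.ofPresheaf (absheaf P) (fun _ _ g r z => secMap_smul P g r z)

/-- Extension by zero on maps, sectionwise. -/
noncomputable def secHom {P Q : PMU R U} (f : P ⟶ Q) (V : Cᵒᵖ) : Sec P V →ₗ[R.obj V] Sec Q V :=
  DirectSum.lmap fun φ => (f.app (op (Over.mk φ))).hom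

lemma secHom_inc {P Q : PMU R U} (f : P ⟶ Q) {V : Cᵒᵖ} (φ : V.unop ⟶ U) (x : Fib P φ) :
    secHom f V (inc P φ x) = inc Q φ (f.app _ x) := by
  let _ := Classical.decEq (V.unop ⟶ U)
  exact DirectSum.lmap_lof _ _ x

/-- Extension by zero on maps. -/
noncomputable def EMap {P Q : PMU R U} (f : P ⟶ Q) : EObj P ⟶ EObj Q where
  app V := ModuleCat.ofHom (secHom f V)
  naturality {V W} g := by
    refine ModuleCat.hom_ext (LinearMap.toAddMonoidHom_injective (sec_ext P fun φ x => ?_))
    change secHom f W (secMap P g (inc P φ x)) = secMap Q g (secHom f V (inc P φ x))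
    rw [secMap_inc P g φ _ rfl, secHom_inc, secHom_inc, secMap_inc Q g φ _ rfl, fres_app]

/-- Extension by zero. -/
noncomputable def E (R : Cᵒᵖ ⥤ RingCat.{u + 1}) (U : C) :
    PMU R U ⥤ PresheafOfModules.{u + 1} R where
  obj := EObj
  map := EMap
  map_id P := by
    refine PresheafOfModules.hom_ext fun V => ModuleCat.hom_ext
      (LinearMap.toAddMonoidHom_injective (sec_ext P fun φ x => ?_))
    exact secHom_inc (𝟙 P) φ x
  map_comp {P Q S} f g := by
    refine PresheafOfModules.hom_ext fun V => ModuleCat.hom_ext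
      (LinearMap.toAddMonoidHom_injective (sec_ext P fun φ x => ?_))
    change secHom (f ≫ g) V (inc P φ x) = secHom g V (secHom f V (inc P φ x))
    rw [secHom_inc, secHom_inc, secHom_inc]
    rfl

/-- The unit: a section goes to the summand of the identity. -/
noncomputable def unitApp (P : PMU R U) : P ⟶ (restrP R U).obj (EObj P) where
  app X := ModuleCat.ofHom (X := P.obj X)
    (Y := ((restrP R U).obj (EObj P)).obj X) (inc P (V := op X.unop.left) X.unop.hom)
  naturality {X Y} h := by
    ext x
    exact (secMap_inc P (h.unop.left.op) X.unop.hom Y.unop.hom (Over.w h.unop) x).symm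

/-- The map out of the extension by zero attached to a map into the restriction. -/
noncomputable def descSec {P : PMU R U}
    {N : PresheafOfModules.{u + 1} R}
    (f : P ⟶ (restrP R U).obj N) (V : Cᵒᵖ) : Sec P V →ₗ[R.obj V] N.obj V :=
  letI := Classical.decEq (V.unop ⟶ U)
  DirectSum.toModule _ _ _ fun φ => (f.app (op (Over.mk φ))).hom

lemma descSec_inc {P : PMU R U}
    {N : PresheafOfModules.{u + 1} R}
    (f : P ⟶ (restrP R U).obj N) {V : Cᵒᵖ} (φ : V.unop ⟶ U) (x : Fib P φ) :
    descSec f V (inc P φ x) = f.app (op (Over.mk φ)) x := by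
  let _ := Classical.decEq (V.unop ⟶ U)
  exact DirectSum.toModule_lof _ φ x

/-- The map out of the extension by zero attached to a map into the restriction. -/
noncomputable def desc {P : PMU R U}
    {N : PresheafOfModules.{u + 1} R}
    (f : P ⟶ (restrP R U).obj N) : EObj P ⟶ N where
  app V := ModuleCat.ofHom (descSec f V)
  naturality {V W} g := by
    refine ModuleCat.hom_ext (LinearMap.toAddMonoidHom_injective (sec_ext P fun φ x => ?_))
    change descSec f W (secMap P g (inc P φ x)) = N.map g (descSec f V (inc P φ x))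
    rw [secMap_inc P g φ _ rfl, descSec_inc, descSec_inc]
    exact PresheafOfModules.naturality_apply f
      (Over.homMk (U := Over.mk (g.unop ≫ φ)) (V := Over.mk φ) g.unop rfl).op x

/-- `E U` is left adjoint to restriction. -/
noncomputable def adj (R : Cᵒᵖ ⥤ RingCat.{u + 1}) (U : C) : E R U ⊣ restrP R U :=
  Adjunction.mkOfHomEquiv
    { homEquiv := fun P N =>
        { toFun := fun g => unitApp P ≫ (restrP R U).map g
          invFun := desc
          left_inv := fun g => by
            refine PresheafOfModules.hom_ext fun V => ModuleCat.hom_ext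
              (LinearMap.toAddMonoidHom_injective (sec_ext P fun φ x => ?_))
            exact descSec_inc (unitApp P ≫ (restrP R U).map g) φ x
          right_inv := fun f => by
            ext X x
            exact descSec_inc f (V := op X.unop.left) X.unop.hom x }
      homEquiv_naturality_left_symm := fun {P P' N} f g => by
        refine PresheafOfModules.hom_ext fun V => ModuleCat.hom_ext
          (LinearMap.toAddMonoidHom_injective (sec_ext P fun φ x => ?_))
        change descSec (f ≫ g) V (inc P φ x) = descSec g V (secHom f V (inc P φ x))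
        rw [secHom_inc, descSec_inc, descSec_inc]
        rfl
      homEquiv_naturality_right := fun f g => by
        ext X x
        rfl }

lemma mono_map {P Q : PMU R U} (f : P ⟶ Q) [Mono f] : Mono ((E R U).map f) := by
  refine PresheafOfModules.mono_of_injective fun {V} => ?_
  have hinj (φ : V.unop ⟶ U) : Function.Injective (f.app (op (Over.mk φ))) :=
    PresheafOfModules.injective_of_mono f _
  intro a b h
  refine DFinsupp.ext fun φ => hinj φ ?_
  have : secHom f V a = secHom f V b := h
  exact DFunLike.congr_fun this φ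

end Groth.Agent.Lib.EtMod.HomCx.ExtendZero

namespace Groth.Agent.Lib.EtMod.HomCx

open CategoryTheory CategoryTheory.Limits

variable {C : Type (u + 1)} [Category.{u} C] {J : GrothendieckTopology C}
  {R : Sheaf J RingCat.{u + 1}} [HasSheafify J AddCommGrpCat.{u + 1}]
  [J.WEqualsLocallyBijective AddCommGrpCat.{u + 1}]

/-- The presheaf of modules of an injective sheaf of modules is injective. -/
theorem injective_val (I : SheafOfModules.{u + 1} R) [Injective I] : Injective I.val :=
  (PresheafOfModules.sheafificationAdjunction.{u + 1} (𝟙 R.obj)).map_injective I inferInstance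

/-- A sheaf of modules with injective presheaf of modules is injective. -/
theorem injective_of_val (I : SheafOfModules.{u + 1} R) [Injective I.val] : Injective I where
  factors {X Y} g f _ := by
    haveI : Mono ((SheafOfModules.forget R).map f) := inferInstance
    haveI : Injective ((SheafOfModules.forget R).obj I) := inferInstanceAs (Injective I.val)
    obtain ⟨h, hh⟩ := Injective.factors ((SheafOfModules.forget R).map g) ((SheafOfModules.forget R).map f)
    exact ⟨⟨h⟩, (SheafOfModules.forget R).map_injective hh⟩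

variable [∀ X : C, HasSheafify (J.over X) AddCommGrpCat.{u + 1}]
  [∀ X : C, (J.over X).WEqualsLocallyBijective AddCommGrpCat.{u + 1}]

/-- Restrictions of injective modules to slices are injective. -/
theorem injective_over (I : SheafOfModules.{u + 1} R) [Injective I] (U : C) : Injective (I.over U) := by
  haveI := injective_val I
  haveI : (ExtendZero.E R.obj U).PreservesMonomorphisms := ⟨fun f => ExtendZero.mono_map f⟩
  have h : Injective ((ExtendZero.restrP R.obj U).obj I.val) :=
    (ExtendZero.adj R.obj U).map_injective I.val inferInstance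
  haveI : Injective (I.over U).val := h
  exact injective_of_val (I.over U)

end Groth.Agent.Lib.EtMod.HomCx
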