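import Groth.Agent.Lib.EtMod.HomCx.Local
import Groth.Agent.Lib.EtMod.HomCx.Basic
import Groth.Prelude.Def_AlgSpPerf

/-!
# Frames of summands of finite free modules, and lifting of morphisms out of them
-/

set_option autoImplicit false
set_option backward.isDefEq.respectTransparency false
set_option backward.isDefEq.respectTransparency.types false
set_option linter.style.haveILetI false

universe u

open CategoryTheory CategoryTheory.Limits Opposite

namespace Groth.Agent.Lib.EtMod.HomCx

variable {C : Type (u + 1)} [Category.{u} C] {J : GrothendieckTopology C}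
  {R : Sheaf J RingCat.{u + 1}}

/-- Finitely many coordinates on a module. -/
structure FinFrame (F : SheafOfModules.{u + 1} R) where
  /-- the number of coordinates -/
  n : ℕ
  /-- the sections -/
  e : Fin n → F.sections
  /-- the coordinates -/
  c : Fin n → (F ⟶ SheafOfModules.unit R)
  total : ∀ (T : C) (x : F.val.obj (op T)),
    ∑ j, (show R.obj.obj (op T) from (c j).val.app (op T) x) • (e j).eval (op T) = x

theorem sections_map {F : SheafOfModules.{u + 1} R} (s : F.sections) {X Y : C} (g : Y ⟶ X) :
    F.val.map g.op (s.eval (op X)) = s.eval (op Y) :=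
  s.property g.op

namespace FinFrame

variable {F N : SheafOfModules.{u + 1} R} (φ : FinFrame F)

/-- A coordinate. -/
noncomputable def coord (j : Fin φ.n) (T : C) : F.val.obj (op T) →+ R.obj.obj (op T) :=
  ((φ.c j).val.app (op T)).hom.toAddMonoidHom

theorem coord_smul (j : Fin φ.n) {T : C} (r : R.obj.obj (op T)) (x : F.val.obj (op T)) :
    φ.coord j T (r • x) = r * φ.coord j T x :=
  ((φ.c j).val.app (op T)).hom.map_smul r x

theorem coord_res (j : Fin φ.n) {T T' : C} (g : T' ⟶ T) (x : F.val.obj (op T)) :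
    φ.coord j T' (F.val.map g.op x) = (R.obj.map g.op).hom (φ.coord j T x) :=
  PresheafOfModules.naturality_apply (φ.c j).val g.op x

theorem sum_coord {T : C} (x : F.val.obj (op T)) :
    ∑ j, φ.coord j T x • (φ.e j).eval (op T) = x :=
  φ.total T x

/-- The morphism with given values on a frame. -/
noncomputable def combHom {X : C} (t : Fin φ.n → N.val.obj (op X)) : HomOn F N X :=
  mkHom (fun T a => AddMonoidHom.mk'
      (fun x => ∑ j, φ.coord j T x • (show N.val.obj (op T) from N.val.map a.op (t j)))
      fun x y => by simp only [map_add, add_smul, Finset.sum_add_distrib])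
    (fun T a r x => by
      simp only [AddMonoidHom.mk'_apply, coord_smul, mul_smul, Finset.smul_sum])
    fun T T' g a x => by
      simp only [AddMonoidHom.mk'_apply]
      refine Eq.trans ?_ (map_sum (N.val.map g.op).hom _ _).symm
      refine Finset.sum_congr rfl fun j _ => ?_
      rw [coord_res, res_comp a g (t j)]
      exact (PresheafOfModules.map_smul N.val g.op _ _).symm

theorem ev_combHom {X T : C} (t : Fin φ.n → N.val.obj (op X)) (a : T ⟶ X) (x : F.val.obj (op T)) :
    ev (φ.combHom t) a x =
      ∑ j, φ.coord j T x • (show N.val.obj (op T) from N.val.map a.op (t j)) := rfl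

theorem ev_eq_sum {X T : C} (r : HomOn F N X) (a : T ⟶ X) (x : F.val.obj (op T)) :
    ev r a x = ∑ j, φ.coord j T x •
      (show N.val.obj (op T) from N.val.map a.op (ev r (𝟙 X) ((φ.e j).eval (op X)))) := by
  conv_lhs => rw [← φ.sum_coord x]
  rw [map_sum]
  refine Finset.sum_congr rfl fun j _ => ?_
  rw [ev_smul]
  refine congrArg _ ?_
  rw [← ev_map, Category.comp_id, sections_map]

end FinFrame

theorem covering_fin {X : C} : ∀ {n : ℕ} (S : Fin n → Sieve X), (∀ j, S j ∈ J X) →
    ∃ T ∈ J X, ∀ ⦃Y : C⦄ (g : Y ⟶ X), T g → ∀ j, S j g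
  | 0, _, _ => ⟨⊤, J.top_mem X, fun _ _ _ j => j.elim0⟩
  | n + 1, S, hS => by
    obtain ⟨T, hT, h⟩ := covering_fin (fun j => S j.succ) fun j => hS j.succ
    exact ⟨S 0 ⊓ T, J.intersection_covering (hS 0) hT, fun Y g hg j =>
      Fin.cases hg.1 (fun j => h g hg.2 j) j⟩

variable [HasSheafify J AddCommGrpCat.{u + 1}] [J.WEqualsLocallyBijective AddCommGrpCat.{u + 1}]

/-- Morphisms out of framed modules lift locally along exact complexes. -/
theorem FinFrame.exists_local_lift {F : SheafOfModules.{u + 1} R} (φ : FinFrame F)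
    {N : CochainComplex (SheafOfModules.{u + 1} R) ℤ} {k n m : ℤ} (hk : k + 1 = n) (hm : n + 1 = m)
    (hN : N.ExactAt n) {X : C} (r : HomOn F (N.X n) X)
    (hr : r ≫ (SheafOfModules.overFunctor R X).map (N.d n m) = 0) :
    ∃ S ∈ J X, ∀ ⦃Y : C⦄ (g : Y ⟶ X), S g → ∃ h : HomOn F (N.X k) Y,
      h ≫ (SheafOfModules.overFunctor R Y).map (N.d k n) = resHom g r := by
  have hs : ∀ j, sec (N.d n m) X (ev r (𝟙 X) ((φ.e j).eval (op X))) = 0 := fun j =>
    congrArg (fun ψ => ev ψ (𝟙 X) ((φ.e j).eval (op X))) hr
  choose S hS hl using fun j => locally_exact hk hm hN X _ (hs j)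
  obtain ⟨T, hT, hTS⟩ := covering_fin S hS
  refine ⟨T, hT, fun Y g hg => ?_⟩
  choose t ht using fun j => hl j g (hTS g hg j)
  refine ⟨φ.combHom t, ev_ext fun V a x => ?_⟩
  rw [ev_comp, ev_combHom, ev_resHom, φ.ev_eq_sum r (a ≫ g) x]
  refine (map_sum (ev ((SheafOfModules.overFunctor R Y).map (N.d k n)) a) _ _).trans
    (Finset.sum_congr rfl fun j _ => ?_)
  rw [ev_smul, ev_over]
  refine congrArg _ ?_
  rw [res_comp g a]
  exact (sec_res (N.d k n) a (t j)).trans (congrArg _ (ht j))

theorem freeSection_coord {n : ℕ} (T : C)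
    (x : (SheafOfModules.free (R := R) (ULift.{u + 1} (Fin n))).val.obj (op T)) :
    ∑ j : Fin n, (show R.obj.obj (op T) from
      (((SheafOfModules.unit R).freeHomEquiv (I := ULift.{u + 1} (Fin n))).symm fun i =>
        if i = ⟨j⟩ then PresheafOfModules.sectionsMk (M := (SheafOfModules.unit R).val)
          (fun Y => (1 : R.obj.obj Y)) (fun Y Y' g => map_one (R.obj.map g).hom)
        else PresheafOfModules.sectionsMk (M := (SheafOfModules.unit R).val)
          (fun Y => (0 : R.obj.obj Y)) (fun Y Y' g => map_zero (R.obj.map g).hom)).val.app (op T) x) •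
      PresheafOfModules.sections.eval (SheafOfModules.freeSection (R := R) (⟨j⟩ : ULift.{u + 1} (Fin n)))
        (op T) = x := by
  classical
  obtain ⟨S, hS, hl⟩ := SubSheaf.exists_local_combFree (R := R) x
  refine SubSheaf.sections_ext _ hS fun Y g hg => ?_
  obtain ⟨b, hb⟩ := hl g hg
  refine (map_sum ((SheafOfModules.free (R := R) (ULift.{u + 1} (Fin n))).val.map g.op).hom _ _).trans ?_
  rw [← hb]
  refine Eq.trans (Finset.sum_congr rfl fun j _ => ?_)
    (show ∑ j : Fin n, b ⟨j⟩ • PresheafOfModules.sections.eval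
      (SheafOfModules.freeSection (R := R) (⟨j⟩ : ULift.{u + 1} (Fin n))) (op Y) = SubSheaf.combFree Y b from ?_)
  · refine (PresheafOfModules.map_smul _ g.op _ _).trans (congrArg₂ (· • ·) ?_
      (sections_map (SheafOfModules.freeSection (R := R) (⟨j⟩ : ULift.{u + 1} (Fin n))) g))
    change (SheafOfModules.unit R).val.map g.op _ = _
    rw [← PresheafOfModules.naturality_apply, ← hb, SubSheaf.freeHomEquiv_app_combFree, Equiv.apply_symm_apply,
      Finsupp.linearCombination_apply]
    refine (Finsupp.sum_fintype b _ fun i => ?_).trans ?_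
    · exact zero_smul _ _
    rw [Finset.sum_eq_single (⟨j⟩ : ULift.{u + 1} (Fin n))]
    · rw [if_pos rfl]
      exact mul_one (b ⟨j⟩)
    · intro i _ hi
      rw [if_neg hi]
      exact mul_zero (b i)
    · exact fun h => absurd (Finset.mem_univ _) h
  · rw [SubSheaf.combFree, Finsupp.linearCombination_apply]
    refine Eq.trans ?_ (Finsupp.sum_fintype b _ fun i => ?_).symm
    swap
    · exact zero_smul _ _
    exact Fintype.sum_equiv Equiv.ulift.symm _ _ fun _ => rfl

/-- Summands of finite free modules have frames. -/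
theorem nonempty_finFrame {F : SheafOfModules.{u + 1} R} (h : DCoh.IsFinFreeSummandMod R F) :
    Nonempty (FinFrame F) := by
  obtain ⟨n, i, p, hip⟩ := h
  refine ⟨⟨n, fun j => SheafOfModules.sectionsMap p (SheafOfModules.freeSection ⟨j⟩),
    fun j => i ≫ ((SheafOfModules.unit R).freeHomEquiv (I := ULift.{u + 1} (Fin n))).symm fun k =>
      if k = ⟨j⟩ then PresheafOfModules.sectionsMk (M := (SheafOfModules.unit R).val)
        (fun Y => (1 : R.obj.obj Y)) (fun Y Y' g => map_one (R.obj.map g).hom)
      else PresheafOfModules.sectionsMk (M := (SheafOfModules.unit R).val)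
        (fun Y => (0 : R.obj.obj Y)) (fun Y Y' g => map_zero (R.obj.map g).hom),
    fun T x => ?_⟩⟩
  have h1 := congrArg (p.val.app (op T)).hom (freeSection_coord (R := R) T (i.val.app (op T) x))
  refine Eq.trans ?_ ((h1.trans ?_))
  · refine Eq.trans ?_ (map_sum (p.val.app (op T)).hom _ _).symm
    exact Finset.sum_congr rfl fun j _ => ((p.val.app (op T)).hom.map_smul _ _).symm
  · exact congrArg (fun ψ : F ⟶ F => ψ.val.app (op T) x) hip

end Groth.Agent.Lib.EtMod.HomCx
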