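import Mathlib.Algebra.Homology.DerivedCategory.Ext.ExactSequences
import Mathlib.Algebra.Homology.ShortComplex.HomologicalComplex
import Mathlib.Algebra.Homology.ShortComplex.Exact

/-!
# Global sections of a bounded below complex of acyclic objects, through the cohomology objects
-/

set_option autoImplicit false
set_option backward.isDefEq.respectTransparency false
set_option linter.style.haveILetI false

universe w v u

open CategoryTheory CategoryTheory.Limits CategoryTheory.Abelian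

namespace Groth.Agent.Lib.EtMod.HomCx

variable {A : Type u} [Category.{v} A] [Abelian A] [HasExt.{w} A] (C : CochainComplex A ℤ) (Z : A)

/-- The boundaries in degree `p + 1`. -/
noncomputable abbrev bdry (p : ℤ) : A := kernel (C.homologyπ (p + 1))

/-- The sequence of cycles, cochains and boundaries. -/
noncomputable def cycSeq (p : ℤ) : ShortComplex A :=
  ShortComplex.mk (C.iCycles p)
    (kernel.lift (C.homologyπ (p + 1)) (C.toCycles p (p + 1)) (C.toCycles_comp_homologyπ p (p + 1)))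
    (by
      rw [← cancel_mono (kernel.ι _), Category.assoc, kernel.lift_ι, ← cancel_mono (C.iCycles (p + 1)),
        Category.assoc, C.toCycles_i, C.iCycles_d, zero_comp, zero_comp])

theorem shortExact_cycSeq (p : ℤ) : (cycSeq C p).ShortExact := by
  have hex : (ShortComplex.mk (C.toCycles p (p + 1)) (C.homologyπ (p + 1))
      (C.toCycles_comp_homologyπ p (p + 1))).Exact :=
    ShortComplex.exact_of_g_is_cokernel _ (C.homologyIsCokernel p (p + 1) (by simp))
  haveI : Mono (cycSeq C p).f := inferInstanceAs (Mono (C.iCycles p))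
  exact
    { exact := by
        refine ShortComplex.exact_of_f_is_kernel _ (KernelFork.IsLimit.ofι' _ _ fun {T} k hk => ?_)
        have h0 : k ≫ C.d p (p + 1) = 0 := by
          rw [← C.toCycles_i p (p + 1), ← kernel.lift_ι (C.homologyπ (p + 1)) (C.toCycles p (p + 1))
            (C.toCycles_comp_homologyπ p (p + 1)), Category.assoc, ← Category.assoc k]
          change (k ≫ (cycSeq C p).g) ≫ _ = 0
          rw [hk, zero_comp]
        exact ⟨C.liftCycles k (p + 1) (by simp) h0, C.liftCycles_i _ _ _ _⟩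
      mono_f := inferInstanceAs (Mono (C.iCycles p))
      epi_g := (ShortComplex.exact_iff_epi_kernel_lift _).1 hex }

/-- The sequence of boundaries, cycles and cohomology. -/
noncomputable def homSeq (p : ℤ) : ShortComplex A :=
  ShortComplex.mk (kernel.ι (C.homologyπ (p + 1))) (C.homologyπ (p + 1)) (kernel.condition _)

theorem shortExact_homSeq (p : ℤ) : (homSeq C p).ShortExact where
  exact := ShortComplex.exact_of_f_is_kernel _ (kernelIsKernel _)
  mono_f := inferInstanceAs (Mono (kernel.ι _))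
  epi_g := inferInstanceAs (Epi (C.homologyπ (p + 1)))

variable {Z}

theorem subsingleton_X₃ {T : ShortComplex A} (hT : T.ShortExact) {j : ℕ}
    (h₂ : Subsingleton (Ext.{w} Z T.X₂ j)) (h₁ : Subsingleton (Ext.{w} Z T.X₁ (j + 1))) :
    Subsingleton (Ext.{w} Z T.X₃ j) := by
  refine subsingleton_of_forall_eq 0 fun x => ?_
  obtain ⟨y, rfl⟩ := Ext.covariant_sequence_exact₃ Z hT x rfl (Subsingleton.elim _ _)
  rw [Subsingleton.elim y 0, Ext.zero_comp]

theorem subsingleton_X₂ {T : ShortComplex A} (hT : T.ShortExact) {j : ℕ}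
    (h₁ : Subsingleton (Ext.{w} Z T.X₁ j)) (h₃ : Subsingleton (Ext.{w} Z T.X₃ j)) :
    Subsingleton (Ext.{w} Z T.X₂ j) := by
  refine subsingleton_of_forall_eq 0 fun x => ?_
  obtain ⟨y, rfl⟩ := Ext.covariant_sequence_exact₂ Z hT x (Subsingleton.elim _ _)
  rw [Subsingleton.elim y 0, Ext.zero_comp]

theorem subsingleton_of_isZero {M : A} (hM : IsZero M) (j : ℕ) : Subsingleton (Ext.{w} Z M j) :=
  subsingleton_of_forall_eq 0 fun x => by
    rw [← Ext.comp_mk₀_id x, hM.eq_of_src (𝟙 M) 0, Ext.mk₀_zero, Ext.comp_zero]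

variable {c₀ q₀ : ℤ} {N : ℕ} (hC : ∀ i < c₀, IsZero (C.X i))
  (hacy : ∀ (i : ℤ) (j : ℕ), Subsingleton (Ext.{w} Z (C.X i) (j + 1)))
  (hH : ∀ (i : ℤ) (j : ℕ), N + 1 ≤ j → Subsingleton (Ext.{w} Z (C.homology i) j))
  (hH₀ : ∀ i : ℤ, q₀ < i → IsZero (C.homology i))

include hacy in
theorem subsingleton_bdry (p : ℤ) (j : ℕ) (h : Subsingleton (Ext.{w} Z (C.cycles p) (j + 2))) :
    Subsingleton (Ext.{w} Z (bdry C p) (j + 1)) :=
  subsingleton_X₃ (shortExact_cycSeq C p) (hacy p j) h

include hC hacy hH in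
theorem subsingleton_cycles_high (p : ℤ) : ∀ j : ℕ, N + 1 ≤ j → Subsingleton (Ext.{w} Z (C.cycles p) j) := by
  have low : ∀ p < c₀, ∀ j : ℕ, Subsingleton (Ext.{w} Z (C.cycles p) j) := fun p hp j =>
    subsingleton_of_isZero (IsZero.of_mono (C.iCycles p) (hC p hp)) j
  suffices key : ∀ (r : ℕ) (p : ℤ), p < c₀ + r → ∀ j : ℕ, N + 1 ≤ j →
      Subsingleton (Ext.{w} Z (C.cycles p) j) from key ((p - c₀ + 1).toNat) p (by omega)
  intro r
  induction r with
  | zero => exact fun p hp j _ => low p (by simpa using hp) j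
  | succ r ih =>
    intro p hp j hj
    obtain ⟨p', rfl⟩ : ∃ p', p = p' + 1 := ⟨p - 1, by omega⟩
    obtain ⟨j', rfl⟩ : ∃ j', j = j' + 1 := ⟨j - 1, by omega⟩
    exact subsingleton_X₂ (shortExact_homSeq C p')
      (subsingleton_bdry C hacy p' j' (ih p' (by omega) _ (by omega))) (hH _ _ hj)

include hC hacy hH hH₀ in
theorem subsingleton_cycles_low : ∀ (r : ℕ) (j : ℕ), 1 ≤ j → N + 1 ≤ j + r →
    Subsingleton (Ext.{w} Z (C.cycles (q₀ + r)) j) := by
  intro r
  induction r with
  | zero => exact fun j _ hj => subsingleton_cycles_high C hC hacy hH _ j (by omega)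
  | succ r ih =>
    intro j hj1 hj
    obtain ⟨j', rfl⟩ : ∃ j', j = j' + 1 := ⟨j - 1, by omega⟩
    have h1 : Subsingleton (Ext.{w} Z (C.cycles (q₀ + r + 1)) (j' + 1)) :=
      subsingleton_X₂ (shortExact_homSeq C (q₀ + r))
        (subsingleton_bdry C hacy (q₀ + r) j' (ih _ (by omega) (by omega)))
        (subsingleton_of_isZero (hH₀ _ (by omega)) _)
    rwa [Nat.cast_add, Nat.cast_one, ← add_assoc]

include hC hacy hH hH₀ in
/-- Cocycles in high degrees are coboundaries. -/
theorem exists_preimage_of_hyper {k l m : ℤ} (hl : l + 1 = k) (hm : k + 1 = m) (hk : q₀ + (N : ℤ) < k)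
    (z : Z ⟶ C.X k) (hz : z ≫ C.d k m = 0) : ∃ y : Z ⟶ C.X l, y ≫ C.d l k = z := by
  subst hl
  obtain ⟨r, rfl⟩ : ∃ r : ℕ, l = q₀ + r := ⟨(l - q₀).toNat, by omega⟩
  have h1 : Subsingleton (Ext.{w} Z (C.cycles (q₀ + r)) 1) :=
    subsingleton_cycles_low C hC hacy hH hH₀ r 1 le_rfl (by omega)
  let c := C.liftCycles z m (by simp [← hm]) hz
  have hc : c ≫ C.homologyπ (q₀ + r + 1) = 0 := (hH₀ _ (by omega)).eq_of_tgt _ _
  let b : Z ⟶ bdry C (q₀ + r) := kernel.lift _ c hc
  obtain ⟨y, hy⟩ := Ext.covariant_sequence_exact₃ Z (shortExact_cycSeq C (q₀ + r)) (Ext.mk₀ b)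
    (n₁ := 1) rfl (@Subsingleton.elim _ h1 _ _)
  obtain ⟨y, rfl⟩ := Ext.homEquiv₀.symm.surjective y
  refine ⟨y, ?_⟩
  have e : y ≫ (cycSeq C (q₀ + r)).g = b := (Ext.mk₀_bijective _ _).1 (by
    rw [← Ext.mk₀_comp_mk₀]; exact hy)
  calc y ≫ C.d (q₀ + r) (q₀ + r + 1)
      = (y ≫ (cycSeq C (q₀ + r)).g) ≫ kernel.ι _ ≫ C.iCycles _ := by
        rw [Category.assoc]
        change _ = y ≫ kernel.lift _ _ _ ≫ kernel.ι _ ≫ C.iCycles _
        rw [kernel.lift_ι_assoc, C.toCycles_i]
    _ = z := by rw [e, kernel.lift_ι_assoc, C.liftCycles_i]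

end Groth.Agent.Lib.EtMod.HomCx
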