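import Groth.Agent.Lib.EtMod.HomCx.LocalCoh
import Groth.Agent.Lib.EtMod.HomCx.Acyclic
import Groth.Agent.Lib.EtMod.HomCx.Hyper
import Mathlib.Algebra.Homology.DerivedCategory.KInjective
import Mathlib.Algebra.Homology.DerivedCategory.TStructure

/-!
# Bounded Ext from perfect objects to quasi-coherent modules on quasi-compact quasi-separated spaces
-/

set_option autoImplicit false
set_option backward.isDefEq.respectTransparency false
set_option backward.isDefEq.respectTransparency.types false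
set_option linter.style.haveILetI false

universe u

open CategoryTheory CategoryTheory.Limits AlgebraicGeometry Opposite AlgSp CochainComplex.HomComplex

attribute [local instance] HasDerivedCategory.standard

namespace Groth.Agent.Lib.EtMod.HomCx

open H8.SpaceMV (Fam famEquiv famEquiv_comp Z ZSp)
open H8.QCohVanish (Good covers)

variable {S : Scheme.{u}} {X : Sp S}

theorem isPerfectEtD_of_iso {K K' : DModEt X} (e : K ≅ K') (hK : IsPerfectEtD K) : IsPerfectEtD K' :=
  fun U => by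
    obtain ⟨ι, W, g, hg, hW⟩ := hK U
    refine ⟨ι, W, g, hg, fun i => ?_⟩
    obtain ⟨E, hE, ⟨e'⟩⟩ := hW i
    exact ⟨E, hE, ⟨(resDEt (W i)).mapIso e.symm ≪≫ e'⟩⟩

/-- Perfect objects are bounded above on quasi-compact spaces. -/
theorem exists_isLE_of_isPerfect (hX : IsAlgSpace X) (hqc : IsQuasiCompactSp X) {K : DModEt X}
    (hK : IsPerfectEtD K) : ∃ b : ℤ, K.IsLE b := by
  haveI := (Lib.AlgSpMor.QC.isQuasiCompactSp_iff hX).1 hqc
  obtain ⟨U, p, hU, hp, hs⟩ := Lib.AlgSpMor.QC.exists_affine_atlas hX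
  let E₀ : EtOver X := EtOver.mk p hp
  haveI : IsAffine E₀.obj.left.left := hU
  obtain ⟨ι, W, j, hj, hW⟩ := hK E₀
  obtain ⟨C, hC⟩ := exists_affCover (R := Sieve.ofArrows W j)
    (Precoverage.generate_mem_toGrothendieck hj)
  have hfin : ∀ k, ∃ b : ℤ, ∀ i : ℤ, b < i → ∀ ⦃W' : EtOver X⦄ (_ : W' ⟶ C.V k)
      (s : sectModEt (DCoh.HDMod (OEtRing X) K i) W'), s = 0 := by
    intro k
    obtain ⟨Z, b, c, ⟨t⟩, -⟩ := hC k
    obtain ⟨P, ⟨⟨a, b', hab⟩, -⟩, ⟨e⟩⟩ := hW t
    refine ⟨b', fun i hi W' g s => ?_⟩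
    let Φ := resModEt (W t)
    have e' : P.homology i ≅
        ((DerivedCategory.homologyFunctor (ModEt X) i).obj K).over (W t) :=
      ((DerivedCategory.homologyFunctorFactors (ModEtOn (W t)) i).app P).symm ≪≫
        (DerivedCategory.homologyFunctor (ModEtOn (W t)) i).mapIso
          (e.symm ≪≫ Φ.mapDerivedCategory.mapIso (DerivedCategory.Q.objObjPreimageIso K).symm ≪≫
            Φ.mapDerivedCategoryFactors.app _) ≪≫
        (DerivedCategory.homologyFunctorFactors (ModEtOn (W t)) i).app _ ≪≫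
        ((DerivedCategory.Q.objPreimage K).sc i).mapHomologyIso Φ ≪≫
        Φ.mapIso ((DerivedCategory.homologyFunctorFactors (ModEt X) i).symm.app _ ≪≫
          (DerivedCategory.homologyFunctor (ModEt X) i).mapIso (DerivedCategory.Q.objObjPreimageIso K))
    have h1 := (IsZero.of_iso (ShortComplex.isZero_homology_of_isZero_X₂ _ (hab i (Or.inr hi)))
      e'.symm).eq_of_src (𝟙 _) 0
    exact congrArg (fun ψ => ψ.val.app (op (Over.mk (g ≫ b))) s) h1
  choose b hb using hfin
  obtain ⟨b₀, hb₀⟩ := (Set.finite_range b).bddAbove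
  refine ⟨b₀, (DerivedCategory.isLE_iff K b₀).2 fun i hi => ?_⟩
  rw [IsZero.iff_id_eq_zero]
  refine SheafOfModules.hom_ext (PresheafOfModules.hom_ext fun T => ModuleCat.hom_ext
    (LinearMap.ext fun s => ?_))
  change s = 0
  have hcov : Sieve.ofArrows (fun _ : PUnit.{u + 2} => EtOver.prodObj T.unop E₀)
      (fun _ => EtOver.prodFst T.unop E₀) ∈ etTop X T.unop := ofArrows_mem_etTop _ _ fun x => by
    have hsurj : Surjective (EtOver.prodFst T.unop E₀).hom.left.left :=
      (AlgSp.repWith_yon_map_iff _ _).1 (Groth.Agent.Lib.AlgSpace.repWith_baseChange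
        ((E₀.property.1.isPullback T.unop.obj.hom)) hs)
    exact ⟨PUnit.unit, hsurj.surj x⟩
  refine SubSheaf.sections_ext _ hcov fun W g hg => ?_
  rw [map_zero]
  obtain ⟨_, l, _, ⟨⟩, -⟩ := hg
  refine SubSheaf.sections_ext _ ((etTop X).pullback_stable (l ≫ EtOver.prodSnd T.unop E₀)
    (ofArrows_mem_etTop C.V C.g C.cov)) fun W' k hk => ?_
  rw [map_zero]
  obtain ⟨_, r, _, ⟨i'⟩, -⟩ := hk
  exact hb i' i (lt_of_le_of_lt (hb₀ ⟨i', rfl⟩) hi) r _

variable {K L : CochainComplex (ModEt X) ℤ}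

/-- A cochain as a family over the space. -/
noncomputable def famOfCochain (hR : IsComm (OEtRing X)) {n : ℤ} (z : Cochain K L n) :
    Fam (𝟙 X) ((toAbEt X).obj (cochSheaf K L hR n)) where
  app E _ := show CochS K L hR n (op E) from
    (z.map (SheafOfModules.overFunctor (OEtRing X) E) : Cochain (resC E K) (resC E L) n)
  naturality {E E'} k _ := (show (z.map (SheafOfModules.overFunctor (OEtRing X) E') :
      Cochain (resC E' K) (resC E' L) n) = resCoch k n (z.map (SheafOfModules.overFunctor (OEtRing X) E)) from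
    Cochain.ext _ _ fun p q h => (resHom_over k (z.v p q h)).symm)

theorem subsingleton_ext_of_iso {A : Type*} [Category A] [Abelian A] [HasExt.{u + 1} A] {Z M M' : A}
    (e : M ≅ M') {j : ℕ} (h : Subsingleton (Abelian.Ext.{u + 1} Z M' j)) :
    Subsingleton (Abelian.Ext.{u + 1} Z M j) :=
  subsingleton_of_forall_eq 0 fun x => by
    rw [← Abelian.Ext.comp_mk₀_id x, ← e.hom_inv_id, ← Abelian.Ext.mk₀_comp_mk₀,
      ← Abelian.Ext.comp_assoc_of_second_deg_zero,
      @Subsingleton.elim _ h (x.comp (Abelian.Ext.mk₀ e.hom) (add_zero _)) 0, Abelian.Ext.zero_comp]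

theorem eq_zero_of_iso_comp {C : Type*} [Category C] [HasZeroMorphisms C] {A B A' B' : C}
    (a : A' ≅ A) (b : B ≅ B') (φ : A ⟶ B) (h : a.hom ≫ φ ≫ b.hom = 0) : φ = 0 := by
  rw [← cancel_epi a.hom, comp_zero, ← cancel_mono b.hom, zero_comp, Category.assoc]
  exact h

theorem hPsh_elim {E : EtOver X} : ∃ g : (yon S).obj E.obj.left ⟶ X, g ≫ 𝟙 X = E.obj.hom :=
  ⟨E.obj.hom, Category.comp_id _⟩

/-- The cochain of a family. -/
theorem exists_cochain_of_fam (hR : IsComm (OEtRing X)) {n : ℤ}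
    (w : Fam (𝟙 X) ((toAbEt X).obj (cochSheaf K L hR n))) :
    ∃ γ : Cochain K L n, ∀ E : EtOver X,
      (γ.map (SheafOfModules.overFunctor (OEtRing X) E) : Cochain (resC E K) (resC E L) n) =
        (show Cochain (resC E K) (resC E L) n from w.app E ⟨E.obj.hom, Category.comp_id _⟩) := by
  let wc : ∀ E, Cochain (resC E K) (resC E L) n := fun E =>
    show Cochain (resC E K) (resC E L) n from w.app E ⟨E.obj.hom, Category.comp_id _⟩
  have hnat : ∀ ⦃E E' : EtOver X⦄ (k : E' ⟶ E), wc E' = resCoch k n (wc E) := fun E E' k =>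
    (congrArg (fun z => (show Cochain (resC E' K) (resC E' L) n from z))
      ((w.congr (EtOver.w k).symm).trans (w.naturality k ⟨E.obj.hom, Category.comp_id _⟩)))
  let r : ∀ (p q : ℤ), p + n = q → ∀ E : EtOver X, HomOn (K.X p) (L.X q) E :=
    fun p q h E => (wc E).v p q h
  have hr : ∀ p q h ⦃E E' : EtOver X⦄ (k : E' ⟶ E), r p q h E' = resHom k (r p q h E) :=
    fun p q h E E' k => congrArg (fun z => Cochain.v z p q h) (hnat k)
  let γ : Cochain K L n := Cochain.mk fun p q h =>
    (show K.X p ⟶ L.X q from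
      { val :=
          { app := fun V => ModuleCat.ofHom (X := (K.X p).val.obj V) (Y := (L.X q).val.obj V)
              { toFun := ev (r p q h V.unop) (𝟙 V.unop)
                map_add' := map_add (ev (r p q h V.unop) (𝟙 V.unop))
                map_smul' := fun c s => ev_smul (r p q h V.unop) (𝟙 V.unop) c s }
            naturality := fun {V W} g => ModuleCat.hom_ext (LinearMap.ext fun s => by
              have h1 := ev_map (r p q h V.unop) g.unop (𝟙 V.unop) s
              rw [Category.comp_id] at h1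
              refine Eq.trans ?_ h1
              change ev (r p q h W.unop) (𝟙 W.unop) _ = _
              rw [hr p q h g.unop, ev_resHom, Category.id_comp]
              rfl) } })
  refine ⟨γ, fun E => Cochain.ext _ _ fun p q h => ev_ext (F := K.X p) (G := L.X q) fun T a s => ?_⟩
  change ev (r p q h T) (𝟙 T) s = ev (r p q h E) a s
  rw [hr p q h a, ev_resHom, Category.id_comp]

theorem cochain_ext_over {n : ℤ} {z z' : Cochain K L n}
    (h : ∀ E : EtOver X, (z.map (SheafOfModules.overFunctor (OEtRing X) E) : Cochain (resC E K) (resC E L) n) =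
      z'.map (SheafOfModules.overFunctor (OEtRing X) E)) : z = z' :=
  Cochain.ext _ _ fun p q hpq => SheafOfModules.hom_ext (PresheafOfModules.hom_ext fun V =>
    ModuleCat.hom_ext (LinearMap.ext fun s =>
      congrArg (fun ψ : HomOn (K.X p) (L.X q) V.unop => ev ψ (𝟙 V.unop) s)
        (Cochain.congr_v (h V.unop) p q hpq)))

variable (hR : IsComm (OEtRing X)) (K L)

/-- The complex of abelian sheaves underlying the internal hom complex. -/
noncomputable abbrev homAb : CochainComplex (AbEt X) ℤ :=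
  ((toAbEt X).mapHomologicalComplex (ComplexShape.up ℤ)).obj (homCx K L hR)

variable {K L}

/-- A cocycle over the space gives a global section killed by the differential. -/
theorem famEquiv_symm_d {k m : ℤ} (hm : k + 1 = m) (z : Cocycle K L k) :
    (famEquiv (𝟙 X) ((homAb K L hR).X k)).symm (famOfCochain hR z.1) ≫ (homAb K L hR).d k m = 0 := by
  refine (famEquiv (𝟙 X) _).injective (Fam.ext (funext fun E => funext fun g' => ?_))
  rw [famEquiv_comp, Equiv.apply_symm_apply]
  refine (homCx_d_apply K L hR k m hm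
    (show (cochSheaf K L hR k).val.obj (op E) from (famOfCochain hR z.1).app E g')).trans ?_
  refine (δ_map (z := z.1) (Φ := SheafOfModules.overFunctor (OEtRing X) E) k m).trans ?_
  rw [Cocycle.δ_eq_zero, Cochain.map_zero]
  refine Eq.trans ?_ (congrArg (fun w => (famEquiv (𝟙 X) ((homAb K L hR).X m) w).app E g')
    (comp_zero (f := (famEquiv (𝟙 X) ((homAb K L hR).X k)).symm (famOfCochain hR z.1))))
  rw [famEquiv_comp]
  rfl

/-- A global primitive gives a primitive cochain. -/
theorem exists_δ_of_preimage {l k : ℤ} (hl : l + 1 = k) (z : Cochain K L k)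
    (y : Z (𝟙 X) ⟶ (homAb K L hR).X l)
    (hy : y ≫ (homAb K L hR).d l k =
      (famEquiv (𝟙 X) ((homAb K L hR).X k)).symm (famOfCochain hR z)) :
    ∃ γ : Cochain K L l, δ l k γ = z := by
  obtain ⟨γ, hγ⟩ := exists_cochain_of_fam hR (famEquiv (𝟙 X) _ y)
  refine ⟨γ, cochain_ext_over fun E => ?_⟩
  rw [← δ_map, hγ E]
  have h1 := congrArg (fun u => (famEquiv (𝟙 X) _ u).app E ⟨E.obj.hom, Category.comp_id _⟩) hy
  simp only [famEquiv_comp, Equiv.apply_symm_apply] at h1
  refine Eq.trans ?_ h1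
  exact (homCx_d_apply K L hR l k hl
    (show (cochSheaf K L hR l).val.obj (op E) from
      (famEquiv (𝟙 X) _ y).app E ⟨E.obj.hom, Category.comp_id _⟩)).symm

variable [QuasiSeparatedSpace ↥S]

set_option maxHeartbeats 1600000 in
/-- Ext groups from a perfect object into quasi-coherent modules are uniformly bounded. -/
theorem exists_bound_hom (Y : Space S) (hqc : IsQuasiCompactSp Y.obj) (hqs : IsQuasiSeparatedSp Y.obj)
    (K : DModEt Y.obj) (hK : IsPerfectEtD K) :
    ∃ N : ℤ, ∀ (M : ModEt Y.obj), M.IsQuasicoherent → ∀ k : ℤ, N ≤ k →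
      ∀ φ : K ⟶ (DCoh.inDMod (OEtRing Y.obj) M)⟦k⟧, φ = 0 := by
  obtain ⟨b, hb⟩ := exists_isLE_of_isPerfect Y.property hqc hK
  haveI := hb
  obtain ⟨Kc, hKcLE, ⟨eK⟩⟩ := DerivedCategory.exists_iso_Q_obj_of_isLE K b
  haveI := hKcLE
  have hKc : IsPerfectEtD (DerivedCategory.Q.obj Kc) := isPerfectEtD_of_iso eK hK
  obtain ⟨q₀, hq₀⟩ := exists_bound_homology Kc hKc Y.property hqc
  let W₀ : EtSpOver Y := ⟨Over.mk (𝟙 Y), fun T φ hφ => by
    exact Eq.mpr (congrArg (fun g => RepWith @Etale g) (Category.comp_id φ)) hφ⟩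
  obtain ⟨N, hN⟩ := H8.SpaceMV.exists_bound Y hqc hqs W₀ hqc hqs
  refine ⟨q₀ + N + 1, fun M hM k hk φ => ?_⟩
  haveI := hM
  let I := injectiveResolution M
  let Ic := I.cochainComplex
  let hR := isComm_OEt Y.obj
  let Cab : CochainComplex (AbEt Y.obj) ℤ :=
    ((toAbEt Y.obj).mapHomologicalComplex (ComplexShape.up ℤ)).obj (cx I Kc)
  have hCz : ∀ i < -b, IsZero (Cab.X i) := fun i hi =>
    Functor.map_isZero (toAbEt Y.obj) (isZero_cochSheaf hR (E := Kc) (L := Ic) fun p q hpq => by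
      by_cases hp : b < p
      · exact Or.inl (Kc.isZero_of_isStrictlyLE b p hp)
      · exact Or.inr (Ic.isZero_of_isStrictlyGE 0 q (by omega)))
  have hacy : ∀ (i : ℤ) (j : ℕ), Subsingleton (Abelian.Ext.{u + 1} (ZSp W₀) (Cab.X i) (j + 1)) :=
    fun i j => subsingleton_ext_cochAbEt Y hqc hqs hR Kc Ic i W₀ hqc hqs j
  have hH : ∀ (i : ℤ) (j : ℕ), N + 1 ≤ j →
      Subsingleton (Abelian.Ext.{u + 1} (ZSp W₀) (Cab.homology i) j) := fun i j hj => by
    obtain ⟨j, rfl⟩ : ∃ j', j = j' + 1 := ⟨j - 1, by omega⟩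
    have hq := isQuasicoherent_homology I Kc hKc (isCart_of_isQuasicoherent M) i
    haveI := hq
    have hg := hN _ (H8.QCohVanish.good_of_isCart ((cx I Kc).homology i)
      (isCart_of_isQuasicoherent _)) j (by omega)
    exact subsingleton_ext_of_iso (((cx I Kc).sc i).mapHomologyIso (toAbEt Y.obj)) hg
  have hH₀ : ∀ i : ℤ, q₀ < i → IsZero (Cab.homology i) := fun i hi =>
    IsZero.of_iso (Functor.map_isZero (toAbEt Y.obj) (hq₀ M I i hi))
      (((cx I Kc).sc i).mapHomologyIso (toAbEt Y.obj))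
  -- the cocycle
  haveI : Ic.IsKInjective := CochainComplex.isKInjective_of_injective _ 0
  let eI : DCoh.inDMod (OEtRing Y.obj) M ≅ DerivedCategory.Q.obj Ic :=
    (DerivedCategory.singleFunctorIsoCompQ (ModEt Y.obj) 0).app M ≪≫ asIso (DerivedCategory.Q.map I.ι')
  let ψ : DerivedCategory.Q.obj Kc ⟶ DerivedCategory.Q.obj (Ic⟦k⟧) :=
    eK.inv ≫ φ ≫ eI.hom⟦k⟧' ≫ (DerivedCategory.Q.commShiftIso k).inv.app Ic
  suffices hψ : ψ = 0 from eq_zero_of_iso_comp eK.symm
    ((shiftFunctor (DModEt Y.obj) k).mapIso eI ≪≫ ((DerivedCategory.Q.commShiftIso k).app Ic).symm) φ hψ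
  let e := DerivedCategory.quotientCompQhIso (ModEt Y.obj)
  obtain ⟨g, hg⟩ := (CochainComplex.IsKInjective.Qh_map_bijective
    ((HomotopyCategory.quotient (ModEt Y.obj) _).obj Kc) (Ic⟦k⟧)).2 (e.hom.app Kc ≫ ψ ≫ e.inv.app _)
  obtain ⟨g, rfl⟩ := (HomotopyCategory.quotient (ModEt Y.obj) (ComplexShape.up ℤ)).map_surjective g
  let z : Cocycle Kc Ic k := Cocycle.equivHomShift g
  have hz : ∃ γ : Cochain Kc Ic (k - 1), δ (k - 1) k γ = z.1 := by
    obtain ⟨y, hy⟩ := exists_preimage_of_hyper Cab hCz hacy hH hH₀ (k := k) (l := k - 1) (m := k + 1)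
      (sub_add_cancel k 1) rfl (by omega) _ (famEquiv_symm_d hR (rfl : k + 1 = k + 1) z)
    exact exists_δ_of_preimage hR (sub_add_cancel k 1) z.1 y hy
  obtain ⟨γ, hγ⟩ := hz
  have hg0 : (HomotopyCategory.quotient (ModEt Y.obj) (ComplexShape.up ℤ)).map g = 0 := by
    have := (CohomologyClass.toHom_mk_eq_zero_iff z).2 ((mem_coboundaries_iff z (k - 1) (sub_add_cancel k 1)).2 ⟨γ, hγ⟩)
    rwa [CohomologyClass.toHom_mk, AddEquiv.symm_apply_apply] at this
  rw [hg0, Functor.map_zero] at hg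
  rw [← cancel_epi (e.hom.app Kc), comp_zero, ← cancel_mono (e.inv.app _), zero_comp, Category.assoc]
  exact hg.symm

end Groth.Agent.Lib.EtMod.HomCx
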