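import Groth.Agent.Lib.EtMod.HomCx.Cochain
import Groth.Agent.Lib.EtMod.SubSheaf
import Groth.Agent.Lib.DerCat.RFAcyclic
import Mathlib.Algebra.Homology.HomotopyCategory.HomComplexCohomology
import Mathlib.Algebra.Homology.HomotopyCategory.KInjective

/-!
# Quasi-isomorphisms of complexes of sheaves of modules, by local lifting of cocycles
-/

set_option autoImplicit false
set_option backward.isDefEq.respectTransparency false
set_option backward.isDefEq.respectTransparency.types false
set_option linter.style.haveILetI false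

universe u

open CategoryTheory CategoryTheory.Limits Opposite

namespace Groth.Agent.Lib.EtMod.HomCx

variable {C : Type (u + 1)} [Category.{u} C] {J : GrothendieckTopology C}
  {R : Sheaf J RingCat.{u + 1}} [HasSheafify J AddCommGrpCat.{u + 1}]
  [J.WEqualsLocallyBijective AddCommGrpCat.{u + 1}]

/-- A morphism on sections, as an additive map. -/
noncomputable abbrev sec {M N : SheafOfModules.{u + 1} R} (φ : M ⟶ N) (X : C) :
    M.val.obj (op X) →+ N.val.obj (op X) :=
  (φ.val.app (op X)).hom.toAddMonoidHom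

theorem sec_res {M N : SheafOfModules.{u + 1} R} (φ : M ⟶ N) {X Y : C} (g : Y ⟶ X)
    (s : M.val.obj (op X)) : sec φ Y (M.val.map g.op s) = N.val.map g.op (sec φ X s) :=
  PresheafOfModules.naturality_apply φ.val g.op s

theorem sec_congr {M N : SheafOfModules.{u + 1} R} {φ ψ : M ⟶ N} (h : φ = ψ) {X : C}
    (s : M.val.obj (op X)) : sec φ X s = sec ψ X s := by rw [h]

theorem res_id {M : SheafOfModules.{u + 1} R} {X : C} (s : M.val.obj (op X)) :
    M.val.map (𝟙 X).op s = s :=
  ConcreteCategory.congr_hom (M.val.presheaf.map_id (op X)) s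

theorem res_comp {M : SheafOfModules.{u + 1} R} {X Y Z : C} (g : Y ⟶ X) (k : Z ⟶ Y)
    (s : M.val.obj (op X)) : M.val.map (k ≫ g).op s = M.val.map k.op (M.val.map g.op s) :=
  ConcreteCategory.congr_hom (M.val.presheaf.map_comp g.op k.op) s

theorem injective_sec {M N : SheafOfModules.{u + 1} R} (φ : M ⟶ N) [Mono φ] (X : C) :
    Function.Injective (sec φ X) := by
  haveI : Mono φ.val := (SheafOfModules.forget R).map_mono φ
  exact PresheafOfModules.injective_of_mono _ (op X)

/-- Locally surjective morphisms are epimorphisms. -/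
theorem epi_of_local {M N : SheafOfModules.{u + 1} R} (φ : M ⟶ N)
    (h : ∀ (X : C) (t : N.val.obj (op X)), ∃ S ∈ J X, ∀ ⦃Y : C⦄ (g : Y ⟶ X), S g →
      ∃ s, sec φ Y s = N.val.map g.op t) : Epi φ := ⟨fun {Z} a b e => by
  refine SheafOfModules.hom_ext (PresheafOfModules.hom_ext fun X => ModuleCat.hom_ext
    (LinearMap.ext fun t => ?_))
  obtain ⟨X⟩ := X
  obtain ⟨S, hS, hl⟩ := h X t
  refine SubSheaf.sections_ext Z hS fun Y g hg => ?_
  obtain ⟨s, hs⟩ := hl g hg
  refine ((sec_res a g t).symm.trans ?_).trans (sec_res b g t)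
  rw [← hs]
  exact sec_congr e s⟩

/-- Morphisms injective on sections are monomorphisms. -/
theorem mono_of_sec {M N : SheafOfModules.{u + 1} R} (φ : M ⟶ N)
    (h : ∀ (X : C) (s : M.val.obj (op X)), sec φ X s = 0 → s = 0) : Mono φ := ⟨fun {Z} a b e => by
  refine SheafOfModules.hom_ext (PresheafOfModules.hom_ext fun X => ModuleCat.hom_ext
    (LinearMap.ext fun t => ?_))
  obtain ⟨X⟩ := X
  refine sub_eq_zero.1 (h X (sec a X t - sec b X t) ?_)
  rw [map_sub, sub_eq_zero]
  exact sec_congr e t⟩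

variable {P Q : CochainComplex (SheafOfModules.{u + 1} R) ℤ}

theorem exists_cycle {n m : ℤ} (hm : n + 1 = m) {X : C} (z : (P.X n).val.obj (op X))
    (hz : sec (P.d n m) X z = 0) : ∃ c, sec (P.iCycles n) X c = z := by
  obtain ⟨c, rfl⟩ := SubSheaf.exists_kernel_lift (P.d n m) z hz
  refine ⟨sec ((P.cyclesIsKernel n m (by simp [hm])).conePointUniqueUpToIso
    (kernelIsKernel (P.d n m))).inv X c, ?_⟩
  exact sec_congr ((P.cyclesIsKernel n m (by simp [hm])).conePointUniqueUpToIso_inv_comp
    (kernelIsKernel (P.d n m)) WalkingParallelPair.zero) c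

theorem d_iCycles {n m : ℤ} {X : C} (c : (P.cycles n).val.obj (op X)) :
    sec (P.d n m) X (sec (P.iCycles n) X c) = 0 :=
  sec_congr (P.iCycles_d n m) c

theorem iCycles_res {n : ℤ} {X Y : C} (g : Y ⟶ X) (c : (P.cycles n).val.obj (op X)) :
    sec (P.iCycles n) Y ((P.cycles n).val.map g.op c) = (P.X n).val.map g.op (sec (P.iCycles n) X c) :=
  sec_res _ g c

/-- A cycle with zero class is locally a boundary. -/
theorem locally_boundary {k n : ℤ} (hk : k + 1 = n) {X : C} (c : (P.cycles n).val.obj (op X))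
    (hc : sec (P.homologyπ n) X c = 0) : ∃ S ∈ J X, ∀ ⦃Y : C⦄ (g : Y ⟶ X), S g →
      ∃ y, sec (P.d k n) Y y = (P.X n).val.map g.op (sec (P.iCycles n) X c) := by
  obtain ⟨c', rfl⟩ := SubSheaf.exists_kernel_lift (P.homologyπ n) c hc
  have hex : (ShortComplex.mk (P.toCycles k n) (P.homologyπ n)
      (P.toCycles_comp_homologyπ k n)).Exact :=
    ShortComplex.exact_of_g_is_cokernel _ (P.homologyIsCokernel k n (by simp [← hk]))
  haveI : Epi (kernel.lift (P.homologyπ n) (P.toCycles k n) (P.toCycles_comp_homologyπ k n)) :=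
    (ShortComplex.exact_iff_epi_kernel_lift _).1 hex
  obtain ⟨T, hT, hT'⟩ := SubSheaf.exists_local_preimage
    (kernel.lift (P.homologyπ n) (P.toCycles k n) (P.toCycles_comp_homologyπ k n)) c'
  refine ⟨T, hT, fun Y g hg => ?_⟩
  obtain ⟨y, hy⟩ := hT' g hg
  refine ⟨y, ?_⟩
  rw [← sec_congr (P.toCycles_i k n), ← iCycles_res]
  refine congrArg (sec (P.iCycles n) Y) ?_
  exact ((sec_congr (kernel.lift_ι _ _ _) y).symm.trans
    (congrArg (sec (kernel.ι (P.homologyπ n)) Y) hy)).trans (sec_res _ g c')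

theorem class_toCycles {k n : ℤ} {X : C} (y : (P.X k).val.obj (op X)) :
    sec (P.homologyπ n) X (sec (P.toCycles k n) X y) = 0 :=
  sec_congr (P.toCycles_comp_homologyπ k n) y

variable (f : P ⟶ Q)

theorem cyclesMap_iCycles {n : ℤ} {X : C} (c : (P.cycles n).val.obj (op X)) :
    sec (Q.iCycles n) X (sec (HomologicalComplex.cyclesMap f n) X c) =
      sec (f.f n) X (sec (P.iCycles n) X c) :=
  sec_congr (HomologicalComplex.cyclesMap_i f n) c

theorem homologyMap_class {n : ℤ} {X : C} (c : (P.cycles n).val.obj (op X)) :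
    sec (HomologicalComplex.homologyMap f n) X (sec (P.homologyπ n) X c) =
      sec (Q.homologyπ n) X (sec (HomologicalComplex.cyclesMap f n) X c) :=
  sec_congr (HomologicalComplex.homologyπ_naturality f n) c

/-- Cocycles of `Q` lift locally to `P` up to a coboundary. -/
def LocSurj (k n m : ℤ) : Prop :=
  ∀ (X : C) (z : (Q.X n).val.obj (op X)), sec (Q.d n m) X z = 0 →
    ∃ S ∈ J X, ∀ ⦃Y : C⦄ (g : Y ⟶ X), S g → ∃ w, sec (P.d n m) Y w = 0 ∧
      ∃ h, sec (f.f n) Y w + sec (Q.d k n) Y h = (Q.X n).val.map g.op z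

/-- Cocycles of `P` becoming coboundaries are locally coboundaries. -/
def LocInj (k n m : ℤ) : Prop :=
  ∀ (X : C) (w : (P.X n).val.obj (op X)), sec (P.d n m) X w = 0 →
    (∃ h, sec (Q.d k n) X h = sec (f.f n) X w) →
    ∃ S ∈ J X, ∀ ⦃Y : C⦄ (g : Y ⟶ X), S g → ∃ y, sec (P.d k n) Y y = (P.X n).val.map g.op w

theorem isIso_homologyMap_of_local {k n m : ℤ} (hk : k + 1 = n) (hm : n + 1 = m)
    (hs : LocSurj f k n m) (hi : LocInj f k n m) : IsIso (HomologicalComplex.homologyMap f n) := by
  haveI : Mono (HomologicalComplex.homologyMap f n) := by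
    refine mono_of_sec _ fun X s hs0 => ?_
    obtain ⟨T, hT, hT'⟩ := SubSheaf.exists_local_preimage (P.homologyπ n) (X := X) s
    refine SubSheaf.sections_ext _ hT fun Y g hg => ?_
    rw [map_zero]
    obtain ⟨c, hc⟩ := hT' g hg
    rw [← hc]
    obtain ⟨T₁, hT₁, h₁⟩ := locally_boundary (P := Q) hk (sec (HomologicalComplex.cyclesMap f n) Y c) (by
      rw [← homologyMap_class]
      refine (congrArg (sec (HomologicalComplex.homologyMap f n) Y) hc).trans ?_
      rw [sec_res, hs0, map_zero])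
    refine SubSheaf.sections_ext _ hT₁ fun Z k' hk' => ?_
    rw [map_zero]
    obtain ⟨y, hy⟩ := h₁ k' hk'
    let c' : (P.cycles n).val.obj (op Z) := (P.cycles n).val.map k'.op c
    obtain ⟨T₂, hT₂, h₂⟩ := hi Z (sec (P.iCycles n) Z c') (d_iCycles c') ⟨y, by
      rw [hy, cyclesMap_iCycles, ← sec_res, iCycles_res]⟩
    refine (sec_res (P.homologyπ n) k' c).symm.trans (SubSheaf.sections_ext _ hT₂ fun W l hl => ?_)
    rw [map_zero]
    obtain ⟨x, hx⟩ := h₂ l hl
    refine (sec_res (P.homologyπ n) l c').symm.trans ?_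
    have : (P.cycles n).val.map l.op c' = sec (P.toCycles k n) W x := by
      refine injective_sec (P.iCycles n) W ?_
      rw [iCycles_res, ← hx]
      exact (sec_congr (P.toCycles_i k n) x).symm
    rw [this]
    exact class_toCycles x
  haveI : Epi (HomologicalComplex.homologyMap f n) := by
    refine epi_of_local _ fun X t => ?_
    obtain ⟨T, hT, hT'⟩ := SubSheaf.exists_local_preimage (Q.homologyπ n) (X := X) t
    choose! c hc using hT'
    choose! T' hT₁ hT₂ using fun (Y : C) (g : Y ⟶ X) (hg : T g) =>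
      hs Y (sec (Q.iCycles n) Y (c g)) (d_iCycles (c g))
    refine ⟨Sieve.bind T.arrows fun Y g _ => T' Y g,
      J.bind_covering hT fun Y g hg => hT₁ Y g hg, ?_⟩
    rintro Z _ ⟨Y, k', g, hg, hk', rfl⟩
    obtain ⟨w, hw, h, hwh⟩ := hT₂ Y g hg k' hk'
    obtain ⟨b, hb⟩ := exists_cycle hm w hw
    refine ⟨sec (P.homologyπ n) Z b, ?_⟩
    have e : (Q.cycles n).val.map k'.op (c g) =
        sec (HomologicalComplex.cyclesMap f n) Z b + sec (Q.toCycles k n) Z h := by
      refine injective_sec (Q.iCycles n) Z ?_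
      rw [iCycles_res, map_add, cyclesMap_iCycles, hb, ← hwh]
      exact congrArg _ (sec_congr (Q.toCycles_i k n) h).symm
    rw [res_comp, ← hc g hg, homologyMap_class]
    refine Eq.trans ?_ (sec_res (Q.homologyπ n) k' (c g))
    rw [e, map_add, class_toCycles, add_zero]
  exact isIso_of_mono_of_epi _

theorem locSurj_of_isIso {k n m : ℤ} (hk : k + 1 = n) (hm : n + 1 = m)
    [IsIso (HomologicalComplex.homologyMap f n)] : LocSurj f k n m := by
  intro X z hz
  obtain ⟨c, rfl⟩ := exists_cycle hm z hz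
  let s := sec (inv (HomologicalComplex.homologyMap f n)) X (sec (Q.homologyπ n) X c)
  obtain ⟨T, hT, hT'⟩ := SubSheaf.exists_local_preimage (P.homologyπ n) (X := X) s
  choose! b hb using hT'
  have hdiff : ∀ (Y : C) (g : Y ⟶ X), T g → sec (Q.homologyπ n) Y
      ((show (Q.cycles n).val.obj (op Y) from (Q.cycles n).val.map g.op c) -
        sec (HomologicalComplex.cyclesMap f n) Y (b g)) = 0 := by
    intro Y g hg
    rw [map_sub, ← homologyMap_class, sec_res, sub_eq_zero]
    refine Eq.trans ?_ (congrArg (sec (HomologicalComplex.homologyMap f n) Y) (hb g hg)).symm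
    rw [sec_res]
    refine congrArg _ ?_
    exact (sec_congr (IsIso.inv_hom_id (HomologicalComplex.homologyMap f n)) _).symm
  choose! T' hT₁ hT₂ using fun (Y : C) (g : Y ⟶ X) (hg : T g) =>
    locally_boundary hk _ (hdiff Y g hg)
  refine ⟨Sieve.bind T.arrows fun Y g _ => T' Y g,
    J.bind_covering hT fun Y g hg => hT₁ Y g hg, ?_⟩
  rintro Z _ ⟨Y, k', g, hg, hk', rfl⟩
  obtain ⟨y, hy⟩ := hT₂ Y g hg k' hk'
  refine ⟨sec (P.iCycles n) Z ((P.cycles n).val.map k'.op (b g)), d_iCycles _, y, ?_⟩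
  rw [hy, map_sub, map_sub, iCycles_res, iCycles_res, cyclesMap_iCycles, res_comp, ← sec_res (f.f n)]
  exact add_sub_cancel _ _

theorem locInj_of_isIso {k n m : ℤ} (hk : k + 1 = n) (hm : n + 1 = m)
    [IsIso (HomologicalComplex.homologyMap f n)] : LocInj f k n m := by
  intro X w hw hh
  obtain ⟨h, hh⟩ := hh
  obtain ⟨c, rfl⟩ := exists_cycle hm w hw
  refine locally_boundary hk c (injective_sec (HomologicalComplex.homologyMap f n) X ?_)
  rw [map_zero, homologyMap_class]
  have : sec (HomologicalComplex.cyclesMap f n) X c = sec (Q.toCycles k n) X h := by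
    refine injective_sec (Q.iCycles n) X ?_
    rw [cyclesMap_iCycles, ← hh]
    exact (sec_congr (Q.toCycles_i k n) h).symm
  rw [this]
  exact class_toCycles h

theorem quasiIso_of_local (h : ∀ n : ℤ, LocSurj f (n - 1) n (n + 1) ∧ LocInj f (n - 1) n (n + 1)) :
    QuasiIso f := by
  rw [quasiIso_iff]
  intro n
  rw [quasiIsoAt_iff_isIso_homologyMap]
  exact isIso_homologyMap_of_local f (sub_add_cancel n 1) rfl (h n).1 (h n).2

/-- A complex in which cocycles are locally coboundaries is acyclic. -/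
theorem isZero_homology_of_local {k n m : ℤ} (hk : k + 1 = n) (hm : n + 1 = m)
    (h : ∀ (X : C) (z : (P.X n).val.obj (op X)), sec (P.d n m) X z = 0 →
      ∃ S ∈ J X, ∀ ⦃Y : C⦄ (g : Y ⟶ X), S g → ∃ y, sec (P.d k n) Y y = (P.X n).val.map g.op z) :
    IsZero (P.homology n) := by
  haveI : Epi (0 : P.X n ⟶ P.homology n) := by
    refine epi_of_local _ fun X t => ?_
    obtain ⟨T, hT, hT'⟩ := SubSheaf.exists_local_preimage (P.homologyπ n) (X := X) t
    choose! c hc using hT'
    choose! T' hT₁ hT₂ using fun (Y : C) (g : Y ⟶ X) (hg : T g) =>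
      h Y (sec (P.iCycles n) Y (c g)) (d_iCycles (c g))
    refine ⟨Sieve.bind T.arrows fun Y g _ => T' Y g,
      J.bind_covering hT fun Y g hg => hT₁ Y g hg, ?_⟩
    rintro Z _ ⟨Y, k', g, hg, hk', rfl⟩
    obtain ⟨y, hy⟩ := hT₂ Y g hg k' hk'
    refine ⟨0, ?_⟩
    rw [map_zero, res_comp, ← hc g hg]
    refine Eq.trans ?_ (sec_res (P.homologyπ n) k' (c g))
    have : (P.cycles n).val.map k'.op (c g) = sec (P.toCycles k n) Z y := by
      refine injective_sec (P.iCycles n) Z ?_
      rw [iCycles_res, ← hy]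
      exact (sec_congr (P.toCycles_i k n) y).symm
    rw [this, class_toCycles]
  exact IsZero.of_epi_zero (P.X n) (P.homology n)

/-- Exact complexes have locally exact sections. -/
theorem locally_exact {k n m : ℤ} (hk : k + 1 = n) (hm : n + 1 = m) (hP : P.ExactAt n) (X : C)
    (z : (P.X n).val.obj (op X)) (hz : sec (P.d n m) X z = 0) :
    ∃ S ∈ J X, ∀ ⦃Y : C⦄ (g : Y ⟶ X), S g → ∃ y, sec (P.d k n) Y y = (P.X n).val.map g.op z := by
  obtain ⟨c, rfl⟩ := exists_cycle hm z hz
  refine locally_boundary hk c ?_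
  exact injective_sec _ X ((sec_congr (show (𝟙 (P.homology n) : _ ⟶ _) = 0 from
    hP.isZero_homology.eq_of_src _ _) _).trans (map_zero (sec (𝟙 (P.homology n)) X)).symm)

/-! ### Restriction to slices -/

variable [∀ X : C, HasSheafify (J.over X) AddCommGrpCat.{u + 1}]
  [∀ X : C, (J.over X).WEqualsLocallyBijective AddCommGrpCat.{u + 1}]

/-- Restriction to slices preserves quasi-isomorphisms. -/
theorem quasiIso_resCMap [QuasiIso f] (U : C) : QuasiIso (resCMap U f) := by
  refine quasiIso_of_local _ fun n => ⟨fun T z hz => ?_, fun T w hw hh => ?_⟩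
  · obtain ⟨S, hS, h⟩ := locSurj_of_isIso f (k := n - 1) (sub_add_cancel n 1) rfl T.left z hz
    refine ⟨(Sieve.overEquiv T).symm S, GrothendieckTopology.overEquiv_symm_mem_over J T S hS,
      fun V g hg => ?_⟩
    exact h g.left (Sieve.overEquiv_symm_iff S g |>.1 hg)
  · obtain ⟨h₀, hh₀⟩ := hh
    obtain ⟨S, hS, h⟩ := locInj_of_isIso f (k := n - 1) (sub_add_cancel n 1) rfl T.left w hw ⟨h₀, hh₀⟩
    refine ⟨(Sieve.overEquiv T).symm S, GrothendieckTopology.overEquiv_symm_mem_over J T S hS,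
      fun V g hg => ?_⟩
    exact h g.left (Sieve.overEquiv_symm_iff S g |>.1 hg)

end Groth.Agent.Lib.EtMod.HomCx
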