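import Groth.Agent.Lib.EtMod.HomCx.Cochain

/-!
# The complex of cochains commutes with restriction to slices
-/

set_option autoImplicit false
set_option backward.isDefEq.respectTransparency false
set_option backward.isDefEq.respectTransparency.types false
set_option linter.style.haveILetI false

universe u

open CategoryTheory CategoryTheory.Limits Opposite CochainComplex.HomComplex

namespace Groth.Agent.Lib.EtMod.HomCx

variable {C : Type (u + 1)} [Category.{u} C] {J : GrothendieckTopology C}
  {R : Sheaf J RingCat.{u + 1}} {U : C}

theorem isComm_over (hR : IsComm R) (U : C) : IsComm (R.over U) := fun T a b => hR T.left a b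

variable {F G H : SheafOfModules.{u + 1} R} {T T' : Over U}

/-- Morphisms over the domain as morphisms over an object of the slice. -/
noncomputable def downHom (T : Over U) : HomOn F G T.left →+ HomOn (F.over U) (G.over U) T where
  toFun φ := mkHom (F := F.over U) (G := G.over U) (fun V a => ev (F := F) (G := G) φ a.left)
    (fun V a r s => ev_smul (F := F) (G := G) φ a.left r s)
    fun V V' g a s => ev_map (F := F) (G := G) φ g.left a.left s
  map_zero' := ev_ext fun _ _ _ => rfl
  map_add' _ _ := ev_ext fun _ _ _ => rfl

theorem ev_downHom {V : Over U} (φ : HomOn F G T.left) (a : V ⟶ T) (s : F.val.obj (op V.left)) :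
    ev (downHom T φ) a s = ev φ a.left s := rfl

/-- Morphisms over an object of the slice as morphisms over the domain. -/
noncomputable def upHom (T : Over U) (ψ : HomOn (F.over U) (G.over U) T) : HomOn F G T.left :=
  mkHom (fun V a => ev (F := F.over U) (G := G.over U) ψ (Over.homMk a : Over.mk (a ≫ T.hom) ⟶ T))
    (fun V a r s => ev_smul (F := F.over U) (G := G.over U) ψ (Over.homMk a : Over.mk (a ≫ T.hom) ⟶ T) r s)
    fun V V' g a s => by
      exact ev_map (F := F.over U) (G := G.over U) ψ (Over.homMk g (by simp) : Over.mk ((g ≫ a) ≫ T.hom) ⟶ Over.mk (a ≫ T.hom))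
        (Over.homMk a : Over.mk (a ≫ T.hom) ⟶ T) s

theorem upHom_downHom (φ : HomOn F G T.left) : upHom T (downHom T φ) = φ :=
  ev_ext fun _ _ _ => rfl

theorem downHom_upHom (ψ : HomOn (F.over U) (G.over U) T) : downHom T (upHom T ψ) = ψ :=
  ev_ext fun V a s => by
    let a₀ : Over.mk (a.left ≫ T.hom) ⟶ T := Over.homMk a.left
    let i : V ⟶ Over.mk (a.left ≫ T.hom) := Over.homMk (𝟙 V.left) (by simp)
    have hi : i ≫ a₀ = a := Over.OverMorphism.ext (Category.id_comp _)
    have hs : F.val.map (𝟙 V.left).op s = s := ConcreteCategory.congr_hom (F.val.presheaf.map_id _) s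
    have h1 := ev_map (F := F.over U) (G := G.over U) ψ i a₀ s
    rw [hi] at h1
    have h2 : ev ψ a s = ev ψ a₀ s :=
      (congrArg (ev (F := F.over U) (G := G.over U) ψ a) hs).symm.trans
        (h1.trans (ConcreteCategory.congr_hom (G.val.presheaf.map_id _) _))
    exact h2.symm

theorem resHom_downHom (g : T' ⟶ T) (φ : HomOn F G T.left) :
    downHom T' (resHom g.left φ) = resHom g (downHom T φ) :=
  ev_ext fun _ _ _ => rfl

theorem downHom_comp (φ : HomOn F G T.left) (ψ : HomOn G H T.left) :
    downHom T (φ ≫ ψ) = downHom T φ ≫ downHom T ψ :=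
  ev_ext fun _ _ _ => rfl

theorem downHom_over (φ : F ⟶ G) :
    downHom T ((SheafOfModules.overFunctor R T.left).map φ) =
      (SheafOfModules.overFunctor (R.over U) T).map ((SheafOfModules.overFunctor R U).map φ) :=
  ev_ext fun _ _ _ => rfl

theorem downHom_scal (hR : IsComm R) (r : R.obj.obj (op T.left)) :
    downHom T (scal hR G r) = scal (isComm_over hR U) (G.over U) r :=
  ev_ext fun _ _ _ => rfl

variable (hR : IsComm R) {K L : CochainComplex (SheafOfModules.{u + 1} R) ℤ}

/-- Cochains over the domain as cochains over an object of the slice. -/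
noncomputable def downCoch (T : Over U) (n : ℤ) :
    Cochain (resC T.left K) (resC T.left L) n ≃+ Cochain (resC T (resC U K)) (resC T (resC U L)) n where
  toFun z := Cochain.mk fun p q h => downHom T (z.v p q h)
  invFun z := Cochain.mk fun p q h => upHom (F := K.X p) (G := L.X q) T (z.v p q h)
  left_inv z := Cochain.ext _ _ fun p q h => upHom_downHom (z.v p q h)
  right_inv z := Cochain.ext _ _ fun p q h => downHom_upHom (F := K.X p) (G := L.X q) (z.v p q h)
  map_add' z z' := Cochain.ext _ _ fun p q h => map_add (downHom T) (z.v p q h) (z'.v p q h)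

theorem downCoch_v {n : ℤ} (z : Cochain (resC T.left K) (resC T.left L) n) (p q : ℤ) (h : p + n = q) :
    (downCoch T n z).v p q h = downHom T (z.v p q h) := rfl

theorem δ_downCoch {n m : ℤ} (hm : n + 1 = m) (z : Cochain (resC T.left K) (resC T.left L) n) :
    δ n m (downCoch T n z) = downCoch T m (δ n m z) := by
  refine Cochain.ext _ _ fun p q h => ?_
  rw [downCoch_v, δ_v n m hm _ p q h (q - 1) (p + 1) rfl rfl, δ_v n m hm _ p q h (q - 1) (p + 1) rfl rfl,
    map_add, downHom_comp, Units.smul_def, Units.smul_def, map_zsmul, downHom_comp]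
  simp only [downCoch_v, Functor.mapHomologicalComplex_obj_d, downHom_over]

theorem resCoch_downCoch (g : T' ⟶ T) {n : ℤ} (z : Cochain (resC T.left K) (resC T.left L) n) :
    downCoch T' n (resCoch g.left n z) = resCoch g n (downCoch T n z) :=
  Cochain.ext _ _ fun p q h => resHom_downHom g (z.v p q h)

theorem downCoch_smul {n : ℤ} (r : R.obj.obj (op T.left)) (z : Cochain (resC T.left K) (resC T.left L) n) :
    downCoch T n (z.comp (Cochain.ofHom (scalC hR L r)) (add_zero n)) =
      (downCoch T n z).comp (Cochain.ofHom (scalC (isComm_over hR U) (resC U L) r)) (add_zero n) := by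
  refine Cochain.ext _ _ fun p q h => ?_
  simp only [downCoch_v, Cochain.comp_zero_cochain_v, Cochain.ofHom_v, scalC_f, downHom_comp, downHom_scal]
  rfl

/-- The sheaf of cochains restricted to a slice. -/
noncomputable def overIsoN (U : C) (n : ℤ) :
    ((cochSheaf K L hR n).over U) ≅ cochSheaf (resC U K) (resC U L) (isComm_over hR U) n :=
  (SheafOfModules.fullyFaithfulForget _).preimageIso <| PresheafOfModules.isoMk
    (fun T => LinearEquiv.toModuleIso
      { toFun := fun z => downCoch T.unop n z
        invFun := fun z => (downCoch T.unop n).symm z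
        left_inv := fun z => (downCoch T.unop n).left_inv z
        right_inv := fun z => (downCoch T.unop n).right_inv z
        map_add' := fun z z' => (downCoch T.unop n).map_add z z'
        map_smul' := fun r z => downCoch_smul hR r z })
    fun T T' g => ModuleCat.hom_ext (LinearMap.ext fun z => resCoch_downCoch g.unop z)

/-- The complex of cochains restricted to a slice. -/
noncomputable def overIso (U : C) :
    resC U (homCx K L hR) ≅ homCx (resC U K) (resC U L) (isComm_over hR U) :=
  HomologicalComplex.Hom.isoOfComponents (fun n => overIsoN hR U n) fun n m hnm =>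
    SheafOfModules.hom_ext (PresheafOfModules.hom_ext fun T => ModuleCat.hom_ext
      (LinearMap.ext fun z => by
        change ((homCx (resC U K) (resC U L) (isComm_over hR U)).d n m).val.app T (downCoch T.unop n z) =
          downCoch T.unop m (((homCx K L hR).d n m).val.app (op T.unop.left) z)
        rw [homCx_d (resC U K) (resC U L) _ n m hnm, homCx_d K L hR n m hnm]
        exact δ_downCoch hnm z))

end Groth.Agent.Lib.EtMod.HomCx
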