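import Groth.Agent.Lib.EtMod.HomCx.Coords
import Groth.Agent.Lib.EtMod.HomCx.OverIso
import Groth.Agent.Lib.EtMod.HomCx.ExtendZero
import Groth.Agent.Lib.EtMod.RfCons.SliceHomology
import Groth.Agent.Lib.EtMod.ProdRes.Groth
import Groth.Agent.Lib.AlgSpMor.QC
import Mathlib.Algebra.Homology.DerivedCategory.Fractions
import Mathlib.CategoryTheory.Abelian.Injective.Extend

/-!
# The cohomology sheaves of the complex of cochains from a perfect complex to a quasi-coherent module
-/

set_option autoImplicit false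
set_option backward.isDefEq.respectTransparency false
set_option backward.isDefEq.respectTransparency.types false
set_option linter.style.haveILetI false

universe u

open CategoryTheory CategoryTheory.Limits AlgebraicGeometry Opposite AlgSp TensorProduct

attribute [local instance] HasDerivedCategory.standard

namespace Groth.Agent.Lib.EtMod.HomCx

variable {S : Scheme.{u}} {X : Sp S}

theorem isComm_OEt (X : Sp S) : IsComm (OEtRing X) := fun E a b =>
  mul_comm (G := (OEt X).obj.obj (op E)) a b

theorem scart_over {M : ModEt X} (hM : IsCart M) (U : EtOver X) : RfCons.SCart (M.over U) := by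
  intro E V _ _ f g
  exact bijective_tens_of_isBaseChange' (M := M) (f := f) g (hM g)
where
  bijective_tens_of_isBaseChange' {M : ModEt X} {U E V : EtOver X} [IsAffine E.obj.left.left]
      [IsAffine V.obj.left.left] {f : E ⟶ U} (g : V ⟶ E)
      (h : IsBC M g) : Function.Bijective
        (tens (LinearMap.id : SSec (M.over U) f →ₗ[fn E] SSec (M.over U) f) g) := by
    exact bijective_tens_of_isBaseChange (P := M.over E) g h

theorem scart_of_sum {X₀ : EtOver X} {P M : SliceMod X₀} {m : ℕ} (π : Fin m → (P ⟶ M))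
    (ι : Fin m → (M ⟶ P))
    (h : ∀ (T : (Over X₀)ᵒᵖ) (z : P.val.obj T), ∑ j, (ι j).val.app T ((π j).val.app T z) = z)
    (hM : RfCons.SCart M) : RfCons.SCart P := by
  intro E V _ _ f g
  have hid : (∑ j, (sMap (ι j) f).comp (sMap (π j) f)) = LinearMap.id :=
    LinearMap.ext fun x => (LinearMap.sum_apply _ _ _).trans (h (op (Over.mk f)) x)
  have hz : ∀ z : Fn g ⊗[fn E] SSec P f,
      ∑ j, (sMap (ι j) f).lTensor (Fn g) ((sMap (π j) f).lTensor (Fn g) z) = z := fun z => by
    calc ∑ j, (sMap (ι j) f).lTensor (Fn g) ((sMap (π j) f).lTensor (Fn g) z)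
        = ((∑ j, (sMap (ι j) f).comp (sMap (π j) f)).lTensor (Fn g)) z := by
          rw [show (∑ j, (sMap (ι j) f).comp (sMap (π j) f)).lTensor (Fn g) =
            ∑ j, ((sMap (ι j) f).comp (sMap (π j) f)).lTensor (Fn g) from
              map_sum (LinearMap.lTensorHom (Fn g)) _ _, LinearMap.sum_apply]
          exact Finset.sum_congr rfl fun j _ => (LinearMap.lTensor_comp_apply _ _ _ _).symm
      _ = z := by rw [hid, LinearMap.lTensor_id, LinearMap.id_apply]
  have hnat : ∀ (j : Fin m) (z : Fn g ⊗[fn E] SSec P f), secS (π j) f g (tens LinearMap.id g z) =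
      tens LinearMap.id g ((sMap (π j) f).lTensor (Fn g) z) := fun j z =>
    RfCons.tens_id_natural (π j) f g z
  refine ⟨fun z z' hzz => ?_, fun w => ?_⟩
  · rw [← hz z, ← hz z']
    refine Finset.sum_congr rfl fun j _ => congrArg _ ((hM f g).1 ?_)
    rw [← hnat, ← hnat, hzz]
  · choose y hy using fun j => (hM f g).2 (secS (π j) f g w)
    refine ⟨∑ j, (sMap (ι j) f).lTensor (Fn g) (y j), ?_⟩
    refine (map_sum _ _ _).trans ?_
    refine Eq.trans (Finset.sum_congr rfl fun j _ => ?_) (h (op (Over.mk (g ≫ f))) w)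
    rw [← RfCons.tens_id_natural (ι j) f g (y j), hy j]
    rfl

variable {M : ModEt X} (I : InjectiveResolution M) (Kc : CochainComplex (ModEt X) ℤ)

/-- The complex of cochains into an injective resolution. -/
noncomputable abbrev cx : CochainComplex (ModEt X) ℤ := homCx Kc I.cochainComplex (isComm_OEt X)

/-- The module in degree zero. -/
noncomputable abbrev single₀ (M : ModEt X) : CochainComplex (ModEt X) ℤ :=
  (CochainComplex.singleFunctor (ModEt X) 0).obj M

theorem isKInjective_res (U : EtOver X) (T : Over U) :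
    (resC T (resC U I.cochainComplex)).IsKInjective := by
  haveI : ∀ n, Injective ((resC T (resC U I.cochainComplex)).X n) := fun n => by
    haveI : Injective ((resC U I.cochainComplex).X n) := injective_over (I.cochainComplex.X n) U
    exact injective_over ((resC U I.cochainComplex).X n) T
  exact CochainComplex.isKInjective_of_injective _ 0

/-- A perfect complex seen locally: the cohomology of cochains is that of cochains into the module. -/
theorem exists_iso_local (U : EtOver X) (E : CochainComplex (ModEtOn U) ℤ)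
    (hE : DCoh.IsStrictlyPerfectMod (OEtOn U) E)
    (e : (resDEt U).obj (DerivedCategory.Q.obj Kc) ≅ DCoh.toDMod (OEtOn U) E) (q : ℤ) :
    Nonempty ((homCx E (resC U (single₀ M)) (isComm_over (isComm_OEt X) U)).homology q ≅
      ((cx I Kc).homology q).over U) := by
  let hR := isComm_over (isComm_OEt X) U
  let Φ := resModEt U
  let e' : DerivedCategory.Q.obj E ≅ DerivedCategory.Q.obj (resC U Kc) :=
    e.symm ≪≫ Φ.mapDerivedCategoryFactors.app Kc
  obtain ⟨R', s, hs, g, fac⟩ := DerivedCategory.right_fac e'.hom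
  haveI := hs
  haveI : QuasiIso s := (DerivedCategory.isIso_Q_map_iff_quasiIso (φ := s)).1 hs
  haveI : IsIso (DerivedCategory.Q.map g) := by
    have hg : DerivedCategory.Q.map g = DerivedCategory.Q.map s ≫ e'.hom := by
      rw [fac, IsIso.hom_inv_id_assoc]
    rw [hg]
    infer_instance
  haveI : QuasiIso g := (DerivedCategory.isIso_Q_map_iff_quasiIso (φ := g)).1 inferInstance
  obtain ⟨⟨a, b, hab⟩, hfr⟩ := hE
  haveI : QuasiIso (resCMap U I.ι') := quasiIso_resCMap I.ι' U
  have hpost := quasiIso_post (resCMap U I.ι') hR (fun p => (nonempty_finFrame (hfr p)).some) hab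
  have hps := quasiIso_pre (K := E) hR (isKInjective_res I U) s
  have hpg := quasiIso_pre (K := resC U Kc) hR (isKInjective_res I U) g
  haveI : IsIso (HomologicalComplex.homologyMap (post (K := E) hR (resCMap U I.ι')) q) :=
    (quasiIsoAt_iff_isIso_homologyMap _ q).1 (hpost.quasiIsoAt q)
  haveI : IsIso (HomologicalComplex.homologyMap (pre (L := resC U I.cochainComplex) hR s) q) :=
    (quasiIsoAt_iff_isIso_homologyMap _ q).1 (hps.quasiIsoAt q)
  haveI : IsIso (HomologicalComplex.homologyMap (pre (L := resC U I.cochainComplex) hR g) q) :=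
    (quasiIsoAt_iff_isIso_homologyMap _ q).1 (hpg.quasiIsoAt q)
  exact ⟨asIso (HomologicalComplex.homologyMap (post (K := E) hR (resCMap U I.ι')) q) ≪≫
    asIso (HomologicalComplex.homologyMap (pre (L := resC U I.cochainComplex) hR s) q) ≪≫
    (asIso (HomologicalComplex.homologyMap (pre (L := resC U I.cochainComplex) hR g) q)).symm ≪≫
    (HomologicalComplex.homologyFunctor _ _ q).mapIso (overIso (K := Kc) (L := I.cochainComplex) (isComm_OEt X) U).symm ≪≫
    ((cx I Kc).sc q).mapHomologyIso Φ⟩

theorem isZero_single₀ (U : EtOver X) {q : ℤ} (hq : q ≠ 0) : IsZero ((resC U (single₀ M)).X q) :=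
  Functor.map_isZero (SheafOfModules.overFunctor (OEtRing X) U)
    (HomologicalComplex.isZero_single_obj_X _ _ _ _ hq)

theorem scart_local (hM : IsCart M) (U : EtOver X) (E : CochainComplex (ModEtOn U) ℤ)
    (hE : DCoh.IsStrictlyPerfectMod (OEtOn U) E) (n : ℤ) :
    RfCons.SCart ((homCx E (resC U (single₀ M)) (isComm_over (isComm_OEt X) U)).X n) := by
  let hR := isComm_over (isComm_OEt X) U
  let φ := (nonempty_finFrame (hE.2 (-n))).some
  refine scart_of_sum (coordHom hR φ) (coordInc hR φ fun q hq => isZero_single₀ U hq)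
    (fun T z => sum_coord_eq hR φ (fun q hq => isZero_single₀ U hq) z) ?_
  exact RfCons.scart_of_iso ((SheafOfModules.overFunctor (OEtRing X) U).mapIso
    (HomologicalComplex.singleObjXSelf (ComplexShape.up ℤ) 0 M).symm) (scart_over hM U)

variable (hKc : IsPerfectEtD (DerivedCategory.Q.obj Kc))

include hKc in
/-- The cohomology sheaves of cochains are quasi-coherent. -/
theorem isQuasicoherent_homology (hM : IsCart M) (q : ℤ) : ((cx I Kc).homology q).IsQuasicoherent := by
  refine isQuasicoherent_of_isCart fun E V _ _ g => ?_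
  obtain ⟨ι, W, j, hj, hW⟩ := hKc E
  obtain ⟨C, hC⟩ := exists_affCover (R := Sieve.ofArrows W j)
    (Precoverage.generate_mem_toGrothendieck hj)
  refine isBC_of_affCover C (fun k U V' _ _ a h => ?_) g
  obtain ⟨Z, b, c, ⟨t⟩, -⟩ := hC k
  obtain ⟨P, hP, ⟨e⟩⟩ := hW t
  obtain ⟨i⟩ := exists_iso_local I Kc (W t) P hP e q
  exact RfCons.isBC_of_scart (RfCons.scart_of_iso i
    (RfCons.scart_homology _ (fun n => scart_local hM (W t) P hP n) q)) (a ≫ b) h

include hKc in
/-- The cohomology sheaves of cochains vanish above a bound independent of the module. -/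
theorem exists_bound_local (E : EtOver X) [IsAffine E.obj.left.left] :
    ∃ (R : Sieve E) (q₀ : ℤ), R ∈ etTop X E ∧ ∀ (N : ModEt X) (J : InjectiveResolution N) (q : ℤ),
      q₀ < q → ∀ ⦃W : EtOver X⦄ (g : W ⟶ E), R g →
        ∀ s : sectModEt ((cx J Kc).homology q) W, s = 0 := by
  obtain ⟨ι, W, j, hj, hW⟩ := hKc E
  obtain ⟨C, hC⟩ := exists_affCover (R := Sieve.ofArrows W j)
    (Precoverage.generate_mem_toGrothendieck hj)
  have hfin : ∀ k, ∃ a : ℤ, ∀ (N : ModEt X) (J : InjectiveResolution N) (q : ℤ), -a < q →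
      ∀ ⦃W' : EtOver X⦄ (g : W' ⟶ C.V k) (s : sectModEt ((cx J Kc).homology q) W'), s = 0 := by
    intro k
    obtain ⟨Z, b, c, ⟨t⟩, -⟩ := hC k
    obtain ⟨P, hP, ⟨e⟩⟩ := hW t
    obtain ⟨⟨a, b', hab⟩, -⟩ := id hP
    refine ⟨a, fun N J q hq W' g s => ?_⟩
    obtain ⟨i⟩ := exists_iso_local J Kc (W t) P hP e q
    have h0 : IsZero ((homCx P (resC (W t) (single₀ N)) (isComm_over (isComm_OEt X) (W t))).homology q) := by
      refine ShortComplex.isZero_homology_of_isZero_X₂ _ (isZero_cochSheaf _ fun p r hpr => ?_)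
      by_cases hr : r = 0
      · exact Or.inl (hab p (Or.inl (by omega)))
      · exact Or.inr (isZero_single₀ (W t) hr)
    have h1 := (IsZero.of_iso h0 i.symm).eq_of_src (𝟙 _) 0
    exact congrArg (fun ψ => ψ.val.app (op (Over.mk (g ≫ b))) s) h1
  choose a ha using hfin
  obtain ⟨q₀, hq₀⟩ := (Set.finite_range fun k => -a k).bddAbove
  refine ⟨Sieve.ofArrows C.V C.g, q₀, ofArrows_mem_etTop _ _ C.cov, fun N J q hq W' g hg s => ?_⟩
  obtain ⟨Z, b, c, ⟨k⟩, -⟩ := hg
  exact ha k N J q (lt_of_le_of_lt (hq₀ ⟨k, rfl⟩) hq) b s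

include hKc in
/-- On a quasi-compact space the cohomology sheaves of cochains vanish above a uniform bound. -/
theorem exists_bound_homology (hX : IsAlgSpace X) (hqc : IsQuasiCompactSp X) :
    ∃ q₀ : ℤ, ∀ (N : ModEt X) (J : InjectiveResolution N) (q : ℤ), q₀ < q →
      IsZero ((cx J Kc).homology q) := by
  haveI := (Lib.AlgSpMor.QC.isQuasiCompactSp_iff hX).1 hqc
  obtain ⟨U, p, hU, hp, hs⟩ := Lib.AlgSpMor.QC.exists_affine_atlas hX
  let E₀ : EtOver X := EtOver.mk p hp
  haveI : IsAffine E₀.obj.left.left := hU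
  obtain ⟨R, q₀, hR, h⟩ := exists_bound_local Kc hKc E₀
  refine ⟨q₀, fun N J q hq => ?_⟩
  rw [IsZero.iff_id_eq_zero]
  refine SheafOfModules.hom_ext (PresheafOfModules.hom_ext fun T => ModuleCat.hom_ext
    (LinearMap.ext fun s => ?_))
  change s = 0
  have hcov : Sieve.ofArrows (fun _ : PUnit.{u + 2} => EtOver.prodObj T.unop E₀)
      (fun _ => EtOver.prodFst T.unop E₀) ∈ etTop X T.unop := ofArrows_mem_etTop _ _ fun x => by
    have hsurj : Surjective (EtOver.prodFst T.unop E₀).hom.left.left :=
      (AlgSp.repWith_yon_map_iff _ _).1 (Groth.Agent.Lib.AlgSpace.repWith_baseChange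
        ((E₀.property.1.isPullback T.unop.obj.hom)) hs)
    exact ⟨PUnit.unit, hsurj.surj x⟩
  refine SubSheaf.sections_ext _ hcov fun W g hg => ?_
  rw [map_zero]
  obtain ⟨_, b, _, ⟨⟩, -⟩ := hg
  refine SubSheaf.sections_ext _ ((etTop X).pullback_stable (b ≫ EtOver.prodSnd T.unop E₀) hR)
    fun W' k hk => ?_
  rw [map_zero]
  exact h N J q hq (k ≫ b ≫ EtOver.prodSnd T.unop E₀) hk _

end Groth.Agent.Lib.EtMod.HomCx
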