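import Groth.Agent.Lib.EtMod.HomCx.Local
import Mathlib.Algebra.Homology.HomotopyCategory.MappingCone

/-!
# Cochains into K-injective complexes turn quasi-isomorphisms into quasi-isomorphisms
-/

set_option autoImplicit false
set_option backward.isDefEq.respectTransparency false
set_option backward.isDefEq.respectTransparency.types false
set_option linter.style.haveILetI false

universe v w u

open CategoryTheory CategoryTheory.Limits Opposite CochainComplex.HomComplex

namespace Groth.Agent.Lib.EtMod.HomCx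

section Abstract

open CochainComplex

variable {A : Type w} [Category.{v} A] [Abelian A] {K' K L : CochainComplex A ℤ}

/-- Cocycles from an acyclic complex into a K-injective one are coboundaries. -/
theorem exists_δ_eq_of_acyclic {M : CochainComplex A ℤ} (hM : M.Acyclic) [L.IsKInjective]
    {k n : ℤ} (hk : k + 1 = n) (z : Cocycle M L n) : ∃ γ : Cochain M L k, δ k n γ = z.1 := by
  have h : CohomologyClass.toHom (CohomologyClass.mk z) = 0 := by
    rw [CohomologyClass.toHom_mk, HomotopyCategory.quotient_map_eq_zero_iff]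
    exact IsKInjective.nonempty_homotopy_zero (Cocycle.equivHomShift.symm z) hM
  exact (mem_coboundaries_iff z k hk).1 ((CohomologyClass.toHom_mk_eq_zero_iff z).1 h)

variable [L.IsKInjective] (a : K' ⟶ K) [QuasiIso a]

theorem exists_descend {k n : ℤ} (hk : k + 1 = n) (z : Cochain K' L n) (hz : δ n (n + 1) z = 0) :
    ∃ w : Cochain K L n, δ n (n + 1) w = 0 ∧ ∃ h : Cochain K' L k,
      (Cochain.ofHom a).comp w (zero_add n) + δ k n h = z := by
  have hM := (DerCat.RFAcyclic.quasiIso_iff_acyclic_mappingCone a).1 inferInstance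
  let β : Cochain (mappingCone a) L (n + 1) := (mappingCone.fst a).1.comp z (add_comm 1 n)
  have hβ : δ (n + 1) (n + 1 + 1) β = 0 := by
    rw [δ_comp (mappingCone.fst a).1 z (add_comm 1 n) 2 (n + 1) (n + 1 + 1) rfl (by norm_num) rfl,
      hz, Cochain.comp_zero, Cocycle.δ_eq_zero, Cochain.zero_comp, smul_zero, add_zero]
  obtain ⟨γ, hγ⟩ := exists_δ_eq_of_acyclic hM (k := n) rfl (Cocycle.mk β (n + 1 + 1) rfl hβ)
  have hγ' : δ n (n + 1) γ = β := hγ
  let w₀ : Cochain K L n := (Cochain.ofHom (mappingCone.inr a)).comp γ (zero_add n)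
  have hw₀ : δ n (n + 1) w₀ = 0 := by
    rw [δ_ofHom_comp, hγ', ← Cochain.comp_assoc_of_first_is_zero_cochain, mappingCone.inr_fst,
      Cochain.zero_comp]
  let h : Cochain K' L k := (mappingCone.inl a).comp γ (show -1 + n = k by omega)
  have hh : δ k n h = z + n.negOnePow • (Cochain.ofHom a).comp w₀ (zero_add n) := by
    rw [δ_comp (mappingCone.inl a) γ (show -1 + n = k by omega) 0 (n + 1) n hk (neg_add_cancel 1) rfl,
      hγ', mappingCone.inl_fst_assoc, mappingCone.δ_inl, Cochain.ofHom_comp,
      Cochain.comp_assoc_of_second_is_zero_cochain]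
  refine ⟨-(n.negOnePow • w₀), ?_, h, ?_⟩
  · rw [δ_neg, δ_units_smul, hw₀, smul_zero, neg_zero]
  · rw [hh, Cochain.comp_neg, Cochain.comp_units_smul]
    abel

theorem exists_bound_descend {k n : ℤ} (hk : k + 1 = n) (w : Cochain K L n)
    (hw : δ n (n + 1) w = 0) (h : Cochain K' L k)
    (hh : δ k n h = (Cochain.ofHom a).comp w (zero_add n)) : ∃ y : Cochain K L k, δ k n y = w := by
  have hM := (DerCat.RFAcyclic.quasiIso_iff_acyclic_mappingCone a).1 inferInstance
  obtain ⟨γ, hγ⟩ := exists_δ_eq_of_acyclic hM (k := k) hk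
    (mappingCone.descCocycle a (n.negOnePow • h) (Cocycle.mk w (n + 1) rfl hw) hk
      (by rw [δ_units_smul, hh]; rfl))
  refine ⟨(Cochain.ofHom (mappingCone.inr a)).comp γ (zero_add k), ?_⟩
  rw [δ_ofHom_comp, hγ]
  exact mappingCone.inr_descCochain a (n.negOnePow • h) w hk

end Abstract

variable {C : Type (u + 1)} [Category.{u} C] {J : GrothendieckTopology C}
  {R : Sheaf J RingCat.{u + 1}} [HasSheafify J AddCommGrpCat.{u + 1}]
  [J.WEqualsLocallyBijective AddCommGrpCat.{u + 1}]
  [∀ X : C, HasSheafify (J.over X) AddCommGrpCat.{u + 1}]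
  [∀ X : C, (J.over X).WEqualsLocallyBijective AddCommGrpCat.{u + 1}]

variable (hR : IsComm R) {K' K L : CochainComplex (SheafOfModules.{u + 1} R) ℤ}

theorem toCoch_add {n : ℤ} {X : Cᵒᵖ} (z z' : (cochSheaf K L hR n).val.obj X) :
    toCoch hR (z + z') = toCoch hR z + toCoch hR z' := rfl

/-- Precomposition with a quasi-isomorphism is a quasi-isomorphism. -/
theorem quasiIso_pre (hL : ∀ X : C, (resC X L).IsKInjective) (a : K' ⟶ K) [QuasiIso a] :
    QuasiIso (pre (L := L) hR a) := by
  refine quasiIso_of_local _ fun n => ⟨fun X z hz => ?_, fun X w hw hh => ?_⟩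
  · haveI := quasiIso_resCMap a X
    haveI := hL X
    obtain ⟨w, hw, h, hwh⟩ := exists_descend (resCMap X a) (sub_add_cancel n 1) (toCoch hR z)
      ((homCx_d_apply K' L hR n (n + 1) rfl z).symm.trans (congrArg (toCoch hR) hz))
    refine ⟨⊤, J.top_mem X, fun Y g _ => ?_⟩
    let wX : ((homCx K L hR).X n).val.obj (op X) := w
    let hX : ((homCx K' L hR).X (n - 1)).val.obj (op X) := h
    refine ⟨((homCx K L hR).X n).val.map g.op wX, ?_,
      ((homCx K' L hR).X (n - 1)).val.map g.op hX, ?_⟩
    · rw [sec_res]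
      have : sec ((homCx K L hR).d n (n + 1)) X wX = 0 :=
        (homCx_d_apply K L hR n (n + 1) rfl wX).trans hw
      rw [this, map_zero]
    · rw [sec_res, sec_res]
      refine (map_add (((homCx K' L hR).X n).val.map g.op).hom _ _).symm.trans
        (congrArg (((homCx K' L hR).X n).val.map g.op).hom ?_)
      refine Eq.trans ?_ hwh
      exact congrArg₂ (· + ·) rfl (homCx_d_apply K' L hR (n - 1) n (sub_add_cancel n 1) hX)
  · obtain ⟨h, hh⟩ := hh
    haveI := quasiIso_resCMap a X
    haveI := hL X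
    obtain ⟨y, hy⟩ := exists_bound_descend (resCMap X a) (sub_add_cancel n 1) (toCoch hR w)
      ((homCx_d_apply K L hR n (n + 1) rfl w).symm.trans (congrArg (toCoch hR) hw)) (toCoch hR h)
      ((homCx_d_apply K' L hR (n - 1) n (sub_add_cancel n 1) h).symm.trans (congrArg (toCoch hR) hh))
    refine ⟨⊤, J.top_mem X, fun Y g _ => ?_⟩
    let yX : ((homCx K L hR).X (n - 1)).val.obj (op X) := y
    refine ⟨((homCx K L hR).X (n - 1)).val.map g.op yX, ?_⟩
    rw [sec_res]
    exact congrArg _ ((homCx_d_apply K L hR (n - 1) n (sub_add_cancel n 1) yX).trans hy)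

end Groth.Agent.Lib.EtMod.HomCx
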