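import Groth.Agent.Lib.EtMod.HomCx.Qis
import Groth.Agent.Lib.EtMod.HomCx.Frame

/-!
# Cochains out of bounded complexes of framed modules turn quasi-isomorphisms into quasi-isomorphisms
-/

set_option autoImplicit false
set_option backward.isDefEq.respectTransparency false
set_option backward.isDefEq.respectTransparency.types false
set_option linter.style.haveILetI false

universe u

open CategoryTheory CategoryTheory.Limits Opposite CochainComplex.HomComplex

namespace Groth.Agent.Lib.EtMod.HomCx

variable {C : Type (u + 1)} [Category.{u} C] {J : GrothendieckTopology C}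
  {R : Sheaf J RingCat.{u + 1}} [HasSheafify J AddCommGrpCat.{u + 1}]
  [J.WEqualsLocallyBijective AddCommGrpCat.{u + 1}]

variable {E N L L' : CochainComplex (SheafOfModules.{u + 1} R) ℤ}

theorem homOn_eq_zero_of_isZero {F G : SheafOfModules.{u + 1} R} (hF : IsZero F) {X : C}
    (r : HomOn F G X) : r = 0 :=
  ev_ext fun T a s => by
    have hs : s = 0 := congrArg (fun ψ : F ⟶ F => ψ.val.app (op T) s) (hF.eq_of_src (𝟙 F) 0)
    rw [hs, map_zero, ev_zero]

theorem cochain_v_eq_zero {n : ℤ} {X : C} (z : Cochain (resC X E) (resC X N) n) (p q : ℤ)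
    (h : p + n = q) (hp : IsZero (E.X p)) : z.v p q h = 0 :=
  homOn_eq_zero_of_isZero (G := N.X q) hp _

/-- Cocycles out of a bounded framed complex into an exact one are locally coboundaries. -/
theorem locally_δ_eq (φ : ∀ p, FinFrame (E.X p)) {a b : ℤ}
    (hab : ∀ i : ℤ, i < a ∨ b < i → IsZero (E.X i)) (hN : N.Acyclic) {k n : ℤ} (hk : k + 1 = n)
    {X : C} (z : Cochain (resC X E) (resC X N) n) (hz : δ n (n + 1) z = 0) :
    ∃ S ∈ J X, ∀ ⦃Y : C⦄ (g : Y ⟶ X), S g → ∃ γ : Cochain (resC Y E) (resC Y N) k,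
      δ k n γ = resCoch g n z := by
  have key : ∀ j : ℕ, ∃ S ∈ J X, ∀ ⦃Y : C⦄ (g : Y ⟶ X), S g →
      ∃ γ : Cochain (resC Y E) (resC Y N) k, ∀ (p q : ℤ) (h : p + n = q), b + 1 - (j : ℤ) ≤ p →
        (δ k n γ).v p q h = (resCoch g n z).v p q h := by
    intro j
    induction j with
    | zero =>
      refine ⟨⊤, J.top_mem X, fun Y g _ => ⟨0, fun p q h hp => ?_⟩⟩
      exact (cochain_v_eq_zero _ p q h (hab p (Or.inr (by omega)))).trans
        (cochain_v_eq_zero _ p q h (hab p (Or.inr (by omega)))).symm
    | succ j ih =>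
      obtain ⟨S, hS, hγ⟩ := ih
      choose! γ hγ using hγ
      let p : ℤ := b - j
      have hlift : ∀ (Y : C) (g : Y ⟶ X), S g → ∃ T ∈ J Y, ∀ ⦃Z : C⦄ (l : Z ⟶ Y), T l →
          ∃ h : HomOn (E.X p) (N.X (p + n - 1)) Z,
            h ≫ (SheafOfModules.overFunctor R Z).map (N.d (p + n - 1) (p + n)) =
              resHom l ((resCoch g n z - δ k n (γ g)).v p (p + n) rfl) := by
        intro Y g hg
        refine (φ p).exists_local_lift (N := N) (k := p + n - 1) (n := p + n) (m := p + n + 1)
          (by omega) rfl (hN _) _ ?_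
        have h0 : δ n (n + 1) (resCoch g n z - δ k n (γ g)) = 0 := by
          rw [δ_sub, δ_δ, sub_zero, δ_resCoch g rfl, hz, map_zero]
        have h1 := Cochain.congr_v h0 p (p + n + 1) (by omega)
        rw [δ_v n (n + 1) rfl _ p (p + n + 1) (by omega) (p + n) (p + 1) (by omega) rfl,
          Cochain.zero_v] at h1
        have h2 : (resCoch g n z - δ k n (γ g)).v (p + 1) (p + n + 1) (by omega) = 0 := by
          rw [Cochain.sub_v, sub_eq_zero]
          exact (hγ g hg (p + 1) (p + n + 1) (by omega) (by omega)).symm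
        rw [h2, comp_zero, smul_zero, add_zero] at h1
        exact h1
      choose! T hT hh using hlift
      refine ⟨Sieve.bind S.arrows fun Y g _ => T Y g,
        J.bind_covering hS fun Y g hg => hT Y g hg, ?_⟩
      rintro Z _ ⟨Y, l, g, hg, hl, rfl⟩
      obtain ⟨h₁, hh⟩ := hh Y g hg l hl
      let h : (resC Z E).X p ⟶ (resC Z N).X (p + n - 1) := h₁
      have hd : h ≫ (resC Z N).d (p + n - 1) (p + n) =
          resHom l ((resCoch g n z - δ k n (γ g)).v p (p + n) rfl) := hh
      refine ⟨resCoch l k (γ g) + Cochain.single h k, fun p' q' hpq hp' => ?_⟩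
      rw [δ_add, δ_resCoch l hk, Cochain.add_v,
        Cochain.δ_single h k n hk (p - 1) (p + n) (sub_add_cancel p 1) (by omega),
        Cochain.add_v, Cochain.units_smul_v,
        Cochain.single_v_eq_zero (((resC Z E).d (p - 1) p) ≫ h) n p' q' hpq (by omega),
        smul_zero, add_zero, resCoch_v, resCoch_comp]
      by_cases hpp : p' = p
      · subst hpp
        obtain rfl : q' = p + n := by omega
        rw [Cochain.single_v, resCoch_v]
        refine (congrArg ((resHom l) ((δ k n (γ g)).v p (p + n) hpq) + ·) hd).trans ?_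
        rw [← map_add, Cochain.sub_v]
        exact congrArg _ (add_sub_cancel _ _)
      · rw [Cochain.single_v_eq_zero _ n p' q' hpq hpp, add_zero, resCoch_v]
        exact congrArg _ (hγ g hg p' q' hpq (by omega))
  obtain ⟨S, hS, h⟩ := key ((b + 1 - a).toNat)
  refine ⟨S, hS, fun Y g hg => ?_⟩
  obtain ⟨γ, hγ⟩ := h g hg
  refine ⟨γ, Cochain.ext _ _ fun p q hpq => ?_⟩
  by_cases hp : b + 1 - ((b + 1 - a).toNat : ℤ) ≤ p
  · exact hγ p q hpq hp
  · exact (cochain_v_eq_zero _ p q hpq (hab p (Or.inl (by omega)))).trans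
      (cochain_v_eq_zero _ p q hpq (hab p (Or.inl (by omega)))).symm

variable (f : L ⟶ L')

/-- The first projection of the mapping cone, restricted to an object. -/
noncomputable abbrev fstOn (X : C) : Cochain (resC X (CochainComplex.mappingCone f)) (resC X L) 1 :=
  (CochainComplex.mappingCone.fst f).1.map (SheafOfModules.overFunctor R X)

/-- The second projection of the mapping cone, restricted to an object. -/
noncomputable abbrev sndOn (X : C) : Cochain (resC X (CochainComplex.mappingCone f)) (resC X L') 0 :=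
  (CochainComplex.mappingCone.snd f).map (SheafOfModules.overFunctor R X)

/-- The left inclusion in the mapping cone, restricted to an object. -/
noncomputable abbrev inlOn (X : C) : Cochain (resC X L) (resC X (CochainComplex.mappingCone f)) (-1) :=
  (CochainComplex.mappingCone.inl f).map (SheafOfModules.overFunctor R X)

theorem δ_fstOn (X : C) : δ 1 2 (fstOn f X) = 0 := by
  rw [fstOn, δ_map, Cocycle.δ_eq_zero, Cochain.map_zero]

theorem δ_sndOn (X : C) :
    δ 0 1 (sndOn f X) = -(fstOn f X).comp (Cochain.ofHom (resCMap X f)) (add_zero 1) := by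
  rw [sndOn, δ_map, CochainComplex.mappingCone.δ_snd, Cochain.map_neg, Cochain.map_comp,
    Cochain.map_ofHom]

theorem inr_fstOn (X : C) :
    (Cochain.ofHom (resCMap X (CochainComplex.mappingCone.inr f))).comp (fstOn f X) (zero_add 1) = 0 := by
  rw [← Cochain.map_ofHom, fstOn, ← Cochain.map_comp, CochainComplex.mappingCone.inr_fst,
    Cochain.map_zero]

theorem inr_sndOn (X : C) :
    (Cochain.ofHom (resCMap X (CochainComplex.mappingCone.inr f))).comp (sndOn f X) (zero_add 0) =
      Cochain.ofHom (𝟙 (resC X L')) := by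
  rw [← Cochain.map_ofHom, sndOn, ← Cochain.map_comp, CochainComplex.mappingCone.inr_snd,
    Cochain.map_ofHom, CategoryTheory.Functor.map_id]

theorem δ_inlOn (X : C) :
    δ (-1) 0 (inlOn f X) = Cochain.ofHom (resCMap X (f ≫ CochainComplex.mappingCone.inr f)) := by
  rw [inlOn, δ_map, CochainComplex.mappingCone.δ_inl, Cochain.map_ofHom]

theorem inl_fstOn (X : C) :
    (inlOn f X).comp (fstOn f X) (neg_add_cancel 1) = Cochain.ofHom (𝟙 (resC X L)) := by
  rw [inlOn, fstOn, ← Cochain.map_comp, CochainComplex.mappingCone.inl_fst, Cochain.map_ofHom,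
    CategoryTheory.Functor.map_id]

variable (hR : IsComm R)

/-- Postcomposition with a quasi-isomorphism is a quasi-isomorphism. -/
theorem quasiIso_post (φ : ∀ p, FinFrame (E.X p)) {a b : ℤ}
    (hab : ∀ i : ℤ, i < a ∨ b < i → IsZero (E.X i)) [QuasiIso f] :
    QuasiIso (post (K := E) hR f) := by
  have hN := (DerCat.RFAcyclic.quasiIso_iff_acyclic_mappingCone f).1 inferInstance
  refine quasiIso_of_local _ fun n => ⟨fun X z hz => ?_, fun X w hw hh => ?_⟩
  · have hz' : δ n (n + 1) (toCoch hR z) = 0 :=
      (homCx_d_apply E L' hR n (n + 1) rfl z).symm.trans (congrArg (toCoch hR) hz)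
    let β := (toCoch hR z).comp (Cochain.ofHom (resCMap X (CochainComplex.mappingCone.inr f))) (add_zero n)
    obtain ⟨S, hS, hl⟩ := locally_δ_eq φ hab hN (sub_add_cancel n 1) β
      (by rw [δ_comp_ofHom, hz', Cochain.zero_comp])
    refine ⟨S, hS, fun Y g hg => ?_⟩
    obtain ⟨γ, hγ⟩ := hl g hg
    rw [resCoch_comp_ofHom g (toCoch hR z) (resCMap X (CochainComplex.mappingCone.inr f))
      (resCMap Y (CochainComplex.mappingCone.inr f)) fun q => resHom_over g _] at hγ
    let w : Cochain (resC Y E) (resC Y L) n := γ.comp (fstOn f Y) (sub_add_cancel n 1)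
    let h : Cochain (resC Y E) (resC Y L') (n - 1) := γ.comp (sndOn f Y) (add_zero (n - 1))
    have hw : δ n (n + 1) w = 0 := by
      rw [δ_comp γ (fstOn f Y) (sub_add_cancel n 1) n 2 (n + 1) rfl (sub_add_cancel n 1) rfl,
        δ_fstOn, Cochain.comp_zero, hγ, Cochain.comp_assoc_of_second_is_zero_cochain, inr_fstOn,
        Cochain.comp_zero, smul_zero, zero_add]
    have hh : w.comp (Cochain.ofHom (resCMap Y f)) (add_zero n) + δ (n - 1) n h =
        resCoch g n (toCoch hR z) := by
      rw [δ_comp_zero_cochain γ (sndOn f Y) n (sub_add_cancel n 1), δ_sndOn, hγ,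
        Cochain.comp_assoc_of_second_is_zero_cochain, inr_sndOn, Cochain.comp_id,
        Cochain.comp_neg, ← Cochain.comp_assoc_of_third_is_zero_cochain]
      abel
    refine ⟨w, (homCx_d_apply E L hR n (n + 1) rfl (X := op Y) w).trans hw, h, ?_⟩
    refine Eq.trans ?_ hh
    exact congrArg₂ (· + ·) rfl (homCx_d_apply E L' hR (n - 1) n (sub_add_cancel n 1) (X := op Y) h)
  · obtain ⟨h₀, hh₀⟩ := hh
    let h : Cochain (resC X E) (resC X L') (n - 1) := toCoch hR h₀
    have hh : δ (n - 1) n h = (toCoch hR w).comp (Cochain.ofHom (resCMap X f)) (add_zero n) :=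
      (homCx_d_apply E L' hR (n - 1) n (sub_add_cancel n 1) h₀).symm.trans (congrArg (toCoch hR) hh₀)
    have hw' : δ n (n + 1) (toCoch hR w) = 0 :=
      (homCx_d_apply E L hR n (n + 1) rfl w).symm.trans (congrArg (toCoch hR) hw)
    let β : Cochain (resC X E) (resC X (CochainComplex.mappingCone f)) (n - 1) :=
      (toCoch hR w).comp (inlOn f X) (show n + -1 = n - 1 by omega) -
        h.comp (Cochain.ofHom (resCMap X (CochainComplex.mappingCone.inr f))) (add_zero (n - 1))
    have hβ : δ (n - 1) (n - 1 + 1) β = 0 := by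
      rw [sub_add_cancel, δ_sub, δ_comp_ofHom, hh,
        δ_comp (toCoch hR w) (inlOn f X) (show n + -1 = n - 1 by omega) (n + 1) 0 n
          (sub_add_cancel n 1) rfl (neg_add_cancel 1),
        hw', Cochain.zero_comp, smul_zero, add_zero, δ_inlOn,
        Cochain.comp_assoc_of_second_is_zero_cochain, ← Cochain.ofHom_comp, ← Functor.map_comp,
        sub_self]
    obtain ⟨S, hS, hl⟩ := locally_δ_eq φ hab hN (k := n - 2) (n := n - 1) (by omega) β hβ
    refine ⟨S, hS, fun Y g hg => ?_⟩
    obtain ⟨γ, hγ⟩ := hl g hg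
    let v : Cochain (resC Y E) (resC Y L) (n - 1) := γ.comp (fstOn f Y) (show n - 2 + 1 = n - 1 by omega)
    have hv : δ (n - 1) n v = -resCoch g n (toCoch hR w) := by
      have e1 : resCoch g (n - 1) ((toCoch hR w).comp (inlOn f X) (show n + -1 = n - 1 by omega)) =
          (resCoch g n (toCoch hR w)).comp (inlOn f Y) (show n + -1 = n - 1 by omega) :=
        Cochain.ext _ _ fun p q hpq => by
          rw [resCoch_v, Cochain.comp_v _ _ (show n + -1 = n - 1 by omega) p (p + n) q rfl (by omega),
            Cochain.comp_v _ _ (show n + -1 = n - 1 by omega) p (p + n) q rfl (by omega),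
            resHom_compHom, resCoch_v]
          simp only [Cochain.map_v, resHom_over]
      rw [δ_comp γ (fstOn f Y) (show n - 2 + 1 = n - 1 by omega) (n - 1) 2 n (sub_add_cancel n 1)
          (by omega) rfl,
        δ_fstOn, Cochain.comp_zero, hγ, map_sub, e1,
        resCoch_comp_ofHom g h (resCMap X (CochainComplex.mappingCone.inr f))
          (resCMap Y (CochainComplex.mappingCone.inr f)) (fun q => resHom_over g _),
        Cochain.sub_comp,
        Cochain.comp_assoc _ (inlOn f Y) (fstOn f Y) (show n + -1 = n - 1 by omega) (neg_add_cancel 1) (by omega),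
        inl_fstOn, Cochain.comp_id, Cochain.comp_assoc_of_second_is_zero_cochain, inr_fstOn,
        Cochain.comp_zero, sub_zero, zero_add, Int.negOnePow_one, Units.neg_smul, one_smul]
    refine ⟨-v, (homCx_d_apply E L hR (n - 1) n (sub_add_cancel n 1) (X := op Y) (-v)).trans ?_⟩
    change δ (n - 1) n (-v) = _
    rw [δ_neg, hv, neg_neg]
    rfl

end Groth.Agent.Lib.EtMod.HomCx
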