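import Groth.Agent.Lib.EtMod.HomCx.Cochain
import Groth.Agent.Lib.EtMod.HomCx.ExtendZero
import Groth.Agent.Lib.EtMod.ProdRes.ModCech

/-!
# Families of morphisms into an injective module: extension along injections and Cech exactness

For a module `F` and a presheaf of sets `S`, the presheaf `V ↦ S(V) →₀ F(V)` corepresents families
of morphisms `F|_V ⟶ I|_V` indexed by `S`.
-/

set_option autoImplicit false
set_option backward.isDefEq.respectTransparency false
set_option backward.isDefEq.respectTransparency.types false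
set_option linter.style.haveILetI false

universe u

open CategoryTheory CategoryTheory.Limits Opposite

namespace Groth.Agent.Lib.EtMod.HomCx

open Lib.ProEt.Cochain

variable {C : Type (u + 1)} [Category.{u} C] {J : GrothendieckTopology C}
  {R : Sheaf J RingCat.{u + 1}} (F : SheafOfModules.{u + 1} R)

/-- Finite formal combinations indexed by a presheaf of sets. -/
abbrev FS (S : Cᵒᵖ ⥤ Type (u + 1)) (V : Cᵒᵖ) : Type (u + 1) := S.obj V →₀ F.val.obj V

/-- The restriction map of formal combinations. -/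
noncomputable def fsRes (S : Cᵒᵖ ⥤ Type (u + 1)) {V W : Cᵒᵖ} (g : V ⟶ W) : FS F S V →+ FS F S W :=
  Finsupp.liftAddHom fun s =>
    (Finsupp.singleAddHom (S.map g s)).comp (F.val.presheaf.map g).hom

theorem fsRes_single (S : Cᵒᵖ ⥤ Type (u + 1)) {V W : Cᵒᵖ} (g : V ⟶ W) (s : S.obj V)
    (x : F.val.obj V) :
    fsRes F S g (Finsupp.single s x) = Finsupp.single (S.map g s) (show F.val.obj W from F.val.map g x) :=
  Finsupp.liftAddHom_apply_single _ _ _

/-- The underlying abelian presheaf. -/
noncomputable def fsAb (S : Cᵒᵖ ⥤ Type (u + 1)) : Cᵒᵖ ⥤ AddCommGrpCat.{u + 1} where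
  obj V := AddCommGrpCat.of (FS F S V)
  map g := AddCommGrpCat.ofHom (fsRes F S g)
  map_id V := AddCommGrpCat.hom_ext (Finsupp.addHom_ext fun s x => by
    refine (fsRes_single F S (𝟙 V) s x).trans ?_
    exact congrArg₂ Finsupp.single (FunctorToTypes.map_id_apply S s)
      (ConcreteCategory.congr_hom (F.val.presheaf.map_id V) x))
  map_comp {V W W'} g h := AddCommGrpCat.hom_ext (Finsupp.addHom_ext fun s x => by
    refine (fsRes_single F S (g ≫ h) s x).trans ?_
    refine Eq.trans ?_ ((congrArg (fsRes F S h) (fsRes_single F S g s x)).trans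
      (fsRes_single F S h _ _)).symm
    exact congrArg₂ Finsupp.single (FunctorToTypes.map_comp_apply S g h s)
      (ConcreteCategory.congr_hom (F.val.presheaf.map_comp g h) x))

noncomputable instance (S : Cᵒᵖ ⥤ Type (u + 1)) (V : Cᵒᵖ) : Module (R.obj.obj V) ((fsAb F S).obj V) :=
  inferInstanceAs (Module (R.obj.obj V) (FS F S V))

/-- The presheaf of modules of formal combinations. -/
noncomputable def fsPsh (S : Cᵒᵖ ⥤ Type (u + 1)) : PresheafOfModules.{u + 1} R.obj :=
  PresheafOfModules.ofPresheaf (fsAb F S) fun V W g r z => by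
    change fsRes F S g (r • z) = (R.obj.map g).hom r • fsRes F S g z
    induction z using Finsupp.induction_linear with
    | zero => rw [smul_zero, map_zero, smul_zero]
    | add a b ha hb => rw [smul_add, map_add, map_add, smul_add, ha, hb]
    | single s x =>
      rw [Finsupp.smul_single, fsRes_single, fsRes_single, Finsupp.smul_single]
      exact congrArg _ (PresheafOfModules.map_smul F.val g r x)

/-- A generator. -/
noncomputable abbrev fsGen {S : Cᵒᵖ ⥤ Type (u + 1)} {V : Cᵒᵖ} (s : S.obj V) (x : F.val.obj V) :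
    (fsPsh F S).obj V :=
  (Finsupp.single s x : FS F S V)

theorem fs_ext {S : Cᵒᵖ ⥤ Type (u + 1)} {M : PresheafOfModules.{u + 1} R.obj}
    {φ ψ : fsPsh F S ⟶ M}
    (h : ∀ (V : Cᵒᵖ) (s : S.obj V) (x : F.val.obj V), φ.app V (fsGen F s x) = ψ.app V (fsGen F s x)) :
    φ = ψ :=
  PresheafOfModules.hom_ext fun V => ModuleCat.hom_ext (LinearMap.toAddMonoidHom_injective
    (Finsupp.addHom_ext fun s x => h V s x))

theorem fsPsh_map_gen {S : Cᵒᵖ ⥤ Type (u + 1)} {V W : Cᵒᵖ} (g : V ⟶ W) (s : S.obj V) (x : F.val.obj V) :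
    (fsPsh F S).map g (fsGen F s x) = fsGen F (S.map g s) (show F.val.obj W from F.val.map g x) :=
  fsRes_single F S g s x

/-- Functoriality in the presheaf of sets. -/
noncomputable def fsMap {S S' : Cᵒᵖ ⥤ Type (u + 1)} (i : S ⟶ S') : fsPsh F S ⟶ fsPsh F S' :=
  PresheafOfModules.homMk
    { app := fun V => AddCommGrpCat.ofHom
        (Finsupp.mapDomain.addMonoidHom (M := F.val.obj V) (i.app V : S.obj V → S'.obj V))
      naturality := fun V W g => AddCommGrpCat.hom_ext (Finsupp.addHom_ext fun s x => by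
        change Finsupp.mapDomain _ (fsRes F S g (Finsupp.single s x)) =
          fsRes F S' g (Finsupp.mapDomain _ (Finsupp.single s x))
        rw [fsRes_single, Finsupp.mapDomain_single, Finsupp.mapDomain_single, fsRes_single]
        exact congrArg (Finsupp.single · _) (ConcreteCategory.congr_hom (i.naturality g) s)) }
    fun V r z => Finsupp.mapDomain_smul r z

theorem fsMap_gen {S S' : Cᵒᵖ ⥤ Type (u + 1)} (i : S ⟶ S') {V : Cᵒᵖ} (s : S.obj V) (x : F.val.obj V) :
    (fsMap F i).app V (fsGen F s x) = fsGen F (i.app V s) x :=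
  Finsupp.mapDomain_single

theorem mono_fsMap {S S' : Cᵒᵖ ⥤ Type (u + 1)} (i : S ⟶ S')
    (hi : ∀ V, Function.Injective (i.app V)) : Mono (fsMap F i) :=
  PresheafOfModules.mono_of_injective fun {V} => Finsupp.mapDomain_injective (hi V)

variable {F} {I : SheafOfModules.{u + 1} R} {S S' : Cᵒᵖ ⥤ Type (u + 1)}

/-- Families of morphisms indexed by a presheaf of sets. -/
def IsFamily (a : ∀ (V : C), S.obj (op V) → HomOn F I V) : Prop :=
  ∀ ⦃V W : C⦄ (g : W ⟶ V) (s : S.obj (op V)), resHom g (a V s) = a W (S.map g.op s)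

/-- The morphism of a family. -/
noncomputable def ofFamily (a : ∀ (V : C), S.obj (op V) → HomOn F I V) (ha : IsFamily a) :
    fsPsh F S ⟶ I.val :=
  PresheafOfModules.homMk
    { app := fun V => AddCommGrpCat.ofHom
        (Finsupp.liftAddHom fun s => ev (a V.unop s) (𝟙 V.unop))
      naturality := fun V W g => AddCommGrpCat.hom_ext (Finsupp.addHom_ext fun s x => by
        change Finsupp.liftAddHom (fun s => ev (a W.unop s) (𝟙 W.unop)) (fsRes F S g (Finsupp.single s x)) =
          I.val.map g (Finsupp.liftAddHom (fun s => ev (a V.unop s) (𝟙 V.unop)) (Finsupp.single s x))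
        rw [fsRes_single, Finsupp.liftAddHom_apply_single, Finsupp.liftAddHom_apply_single]
        refine Eq.trans ?_ (ev_map (a V.unop s) g.unop (𝟙 V.unop) x)
        have e := congrArg (fun φ : HomOn F I W.unop => ev φ (𝟙 W.unop) (show F.val.obj W from F.val.map g x))
          (ha g.unop s)
        rw [ev_resHom, Category.id_comp] at e
        rw [Category.comp_id]
        exact e.symm) }
    fun V r z => by
      change Finsupp.liftAddHom _ (show FS F S V from r • z) = r • Finsupp.liftAddHom _ (show FS F S V from z)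
      induction (show FS F S V from z) using Finsupp.induction_linear with
      | zero => rw [smul_zero, map_zero, smul_zero]
      | add a b ha hb => rw [smul_add, map_add, map_add, smul_add, ha, hb]
      | single s x =>
        rw [Finsupp.smul_single, Finsupp.liftAddHom_apply_single, Finsupp.liftAddHom_apply_single]
        exact ev_smul _ _ r x

theorem ofFamily_gen (a : ∀ (V : C), S.obj (op V) → HomOn F I V) (ha : IsFamily a) {V : Cᵒᵖ}
    (s : S.obj V) (x : F.val.obj V) :
    (ofFamily a ha).app V (fsGen F s x) = ev (a V.unop s) (𝟙 V.unop) x :=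
  Finsupp.liftAddHom_apply_single _ _ _

/-- The family of a morphism. -/
noncomputable def toFamily (ψ : fsPsh F S ⟶ I.val) (V : C) (s : S.obj (op V)) : HomOn F I V :=
  mkHom (fun W h => AddMonoidHom.mk' (fun x => ψ.app (op W) (fsGen F (S.map h.op s) x))
      fun x y => by
        rw [← map_add]
        exact congrArg _ (Finsupp.single_add _ _ _))
    (fun W h r x => by
      change ψ.app (op W) (fsGen F (S.map h.op s) (r • x)) = r • ψ.app (op W) (fsGen F (S.map h.op s) x)
      rw [← map_smul]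
      exact congrArg _ (Finsupp.smul_single r (S.map h.op s) x).symm)
    fun W W' g h x => by
      change ψ.app (op W') (fsGen F (S.map (g ≫ h).op s) (F.val.map g.op x)) =
        I.val.map g.op (ψ.app (op W) (fsGen F (S.map h.op s) x))
      rw [← PresheafOfModules.naturality_apply, fsPsh_map_gen, op_comp, FunctorToTypes.map_comp_apply]

theorem ev_toFamily (ψ : fsPsh F S ⟶ I.val) {V W : C} (s : S.obj (op V)) (h : W ⟶ V)
    (x : F.val.obj (op W)) : ev (toFamily ψ V s) h x = ψ.app (op W) (fsGen F (S.map h.op s) x) := rfl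

theorem isFamily_toFamily (ψ : fsPsh F S ⟶ I.val) : IsFamily (toFamily ψ) := fun V W g s =>
  ev_ext fun T h x => by
    rw [ev_resHom, ev_toFamily, ev_toFamily, op_comp, FunctorToTypes.map_comp_apply]

theorem ev_eq_ofFamily (a : ∀ (V : C), S.obj (op V) → HomOn F I V) (ha : IsFamily a) {V W : C}
    (s : S.obj (op V)) (h : W ⟶ V) (x : F.val.obj (op W)) :
    ev (a V s) h x = (ofFamily a ha).app (op W) (fsGen F (S.map h.op s) x) := by
  rw [ofFamily_gen, ← ha h s, ev_resHom, Category.id_comp]

variable [HasSheafify J AddCommGrpCat.{u + 1}] [J.WEqualsLocallyBijective AddCommGrpCat.{u + 1}]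
  [Injective I]

/-- Families extend along injections of presheaves of sets. -/
theorem exists_extend_family (i : S ⟶ S') (hi : ∀ V, Function.Injective (i.app V))
    (a : ∀ (V : C), S.obj (op V) → HomOn F I V) (ha : IsFamily a) :
    ∃ b : ∀ (V : C), S'.obj (op V) → HomOn F I V, IsFamily b ∧ ∀ V s, b V (i.app (op V) s) = a V s := by
  haveI := injective_val I
  haveI := mono_fsMap F i hi
  refine ⟨toFamily (Injective.factorThru (ofFamily a ha) (fsMap F i)), isFamily_toFamily _,
    fun V s => ev_ext fun W h x => ?_⟩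
  have hn : S'.map h.op (i.app (op V) s) = i.app (op W) (S.map h.op s) :=
    (ConcreteCategory.congr_hom (i.naturality h.op) s).symm
  rw [ev_toFamily, hn, ev_eq_ofFamily a ha, ← fsMap_gen]
  exact congrArg (fun φ => φ.app (op W) (fsGen F (S.map h.op s) x))
    (Injective.comp_factorThru (ofFamily a ha) (fsMap F i))

section Cech

variable (F) {P U : C} (c : P ⟶ U)

/-- A face as a morphism of presheaves of tuples. -/
noncomputable def faceMap (n : ℕ) (i : Fin (n + 2)) : tupPsh c (n + 1) ⟶ tupPsh c n where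
  app V := ↾fun t => ⟨face i t.down⟩
  naturality V W g := by
    ext t
    rfl

/-- The boundary of formal combinations of tuples. -/
noncomputable def fsBd (n : ℕ) : fsPsh F (tupPsh c (n + 1)) ⟶ fsPsh F (tupPsh c n) :=
  ∑ i : Fin (n + 2), (-1 : ℤ) ^ (i : ℕ) • fsMap F (faceMap c n i)

theorem fsBd_gen {n : ℕ} {V : Cᵒᵖ} (t : Tup c (n + 1) V.unop) (x : F.val.obj V) :
    (fsBd F c n).app V (fsGen F (S := tupPsh c (n + 1)) ⟨t⟩ x) =
      ∑ i : Fin (n + 2), (-1 : ℤ) ^ (i : ℕ) • fsGen F (S := tupPsh c n) ⟨face i t⟩ x := by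
  let evV : (fsPsh F (tupPsh c (n + 1)) ⟶ fsPsh F (tupPsh c n)) →+ (fsPsh F (tupPsh c n)).obj V :=
    AddMonoidHom.mk' (fun φ => φ.app V (fsGen F (S := tupPsh c (n + 1)) ⟨t⟩ x)) fun _ _ => rfl
  refine (map_sum evV _ _).trans (Finset.sum_congr rfl fun i _ => ?_)
  rw [map_zsmul]
  exact congrArg _ (fsMap_gen F (faceMap c n i) (⟨t⟩ : (tupPsh c (n + 1)).obj V) x)

theorem fsBd_comp (n : ℕ) : fsBd F c (n + 1) ≫ fsBd F c n = 0 := by
  refine fs_ext F fun V t x => ?_
  obtain ⟨t⟩ := t
  change (fsBd F c n).app V ((fsBd F c (n + 1)).app V (fsGen F (S := tupPsh c (n + 2)) ⟨t⟩ x)) = 0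
  rw [fsBd_gen, map_sum]
  simp only [map_zsmul, fsBd_gen]
  let Fn : C → AddCommGrpCat.{u + 1} := fun _ => AddCommGrpCat.of (FS F (tupPsh c n) V)
  simp only [Finset.smul_sum, smul_smul]
  rw [← Finset.sum_product']
  refine Finset.sum_involution
    (fun p _ => if h : (p.2 : ℕ) < (p.1 : ℕ) then
      (Fin.castLT p.2 (by omega), ⟨(p.1 : ℕ) - 1, by omega⟩) else (p.2.succ, ⟨(p.1 : ℕ), by omega⟩))
    ?_ ?_ (fun _ _ => Finset.mem_univ _) ?_
  · rintro ⟨i, j⟩ _
    by_cases h : (j : ℕ) < (i : ℕ)
    · simp only [dif_pos h]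
      have e : face j (face i t) = face (⟨(i : ℕ) - 1, by omega⟩ : Fin (n + 2)) (face (Fin.castLT j (by omega)) t) := by
        have hi : (⟨(i : ℕ) - 1, by omega⟩ : Fin (n + 2)).succ = i := Fin.ext (by simp; omega)
        have := face_face (⟨(i : ℕ) - 1, by omega⟩ : Fin (n + 2)) (Fin.castLT j (by omega)) (by simp; omega) t
        rw [hi] at this
        refine Eq.trans ?_ this
        exact congrArg (fun k => face k (face i t)) (Fin.ext rfl)
      rw [e, ← add_smul]
      convert zero_smul ℤ _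
      have : ((i : ℕ) - 1) + 1 = i := by omega
      simp only [Fin.val_castLT]
      conv_lhs => arg 1; rw [← this, pow_succ]
      ring
    · simp only [dif_neg h]
      have e : face (⟨(i : ℕ), by omega⟩ : Fin (n + 2)) (face j.succ t) = face j (face i t) := by
        have := face_face j i (by omega) t
        refine Eq.trans ?_ this
        exact congrArg (fun k => face k (face j.succ t)) (Fin.ext rfl)
      rw [e, ← add_smul]
      convert zero_smul ℤ _
      simp only [Fin.val_succ, pow_succ]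
      ring
  · rintro ⟨i, j⟩ _ _
    by_cases h : (j : ℕ) < (i : ℕ)
    · simp only [dif_pos h, ne_eq, Prod.mk.injEq, Fin.ext_iff, Fin.val_castLT]
      omega
    · simp only [dif_neg h, ne_eq, Prod.mk.injEq, Fin.ext_iff, Fin.val_succ]
      omega
  · rintro ⟨i, j⟩ _
    by_cases h : (j : ℕ) < (i : ℕ)
    · have h' : ¬ ((⟨(i : ℕ) - 1, by omega⟩ : Fin (n + 2)) : ℕ) < (Fin.castLT j (by omega : (j : ℕ) < n + 3) : ℕ) := by
        simp; omega
      simp only [dif_pos h, dif_neg h']
      refine Prod.ext (Fin.ext ?_) (Fin.ext ?_) <;> simp <;> omega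
    · have h' : ((⟨(i : ℕ), by omega⟩ : Fin (n + 2)) : ℕ) < (j.succ : ℕ) := by simp; omega
      simp only [dif_neg h, dif_pos h']
      refine Prod.ext (Fin.ext ?_) (Fin.ext ?_) <;> simp

open ProdRes in
/-- The complex of formal combinations of tuples is exact in positive degrees. -/
theorem exact_fsBd (n : ℕ) :
    (ShortComplex.mk (fsBd F c (n + 1)) (fsBd F c n) (fsBd_comp F c n)).Exact := by
  rw [← ShortComplex.exact_map_iff_of_faithful _ (PresheafOfModules.toPresheaf R.obj),
    ShortComplex.exact_iff_isZero_homology, Functor.isZero_iff]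
  intro W
  refine IsZero.of_iso ?_ (((ShortComplex.mk _ _ (fsBd_comp F c n)).map
    (PresheafOfModules.toPresheaf R.obj)).mapHomologyIso
      ((evaluation Cᵒᵖ AddCommGrpCat.{u + 1}).obj W)).symm
  refine (ShortComplex.exact_iff_isZero_homology _).mp ?_
  rw [ShortComplex.ab_exact_iff]
  intro z hz
  let cn : ∀ m, FS F (tupPsh c m) W →+ FS F (tupPsh c (m + 1)) W := fun m =>
    Finsupp.mapDomain.addMonoidHom fun t => ⟨cone₀ W t.down⟩
  let bd : ∀ m, FS F (tupPsh c (m + 1)) W →+ FS F (tupPsh c m) W := fun m =>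
    ((fsBd F c m).app W).hom.toAddMonoidHom
  refine ⟨cn (n + 1) z, ?_⟩
  have key : (bd (n + 1)).comp (cn (n + 1)) + (cn n).comp (bd n) = AddMonoidHom.id _ := by
    refine Finsupp.addHom_ext fun t x => ?_
    obtain ⟨t⟩ := t
    change (show FS F (tupPsh c (n + 1)) W from bd (n + 1) (cn (n + 1) (Finsupp.single ⟨t⟩ x))) +
      (show FS F (tupPsh c (n + 1)) W from cn n (bd n (Finsupp.single ⟨t⟩ x))) = Finsupp.single ⟨t⟩ x
    rw [show cn (n + 1) (Finsupp.single (⟨t⟩ : (tupPsh c (n + 1)).obj W) x) =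
        Finsupp.single (⟨cone₀ W t⟩ : (tupPsh c (n + 2)).obj W) x from Finsupp.mapDomain_single]
    refine (congrArg₂ (fun a b : FS F (tupPsh c (n + 1)) W => a + b) (fsBd_gen F c (cone₀ W t) x)
      ((congrArg (cn n) (fsBd_gen F c t x)).trans (map_sum (cn n) _ _))).trans ?_
    rw [Fin.sum_univ_succ, face_zero_cone₀]
    simp only [map_zsmul, Fin.val_zero, pow_zero, one_smul, face_succ_cone₀,
      Fin.val_succ, pow_succ, mul_neg, mul_one, neg_smul, Finset.sum_neg_distrib, fsGen]
    have hc : ∀ i : Fin (n + 2), cn n (Finsupp.single (⟨face i t⟩ : (tupPsh c n).obj W) x) =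
        Finsupp.single (⟨cone₀ W (face i t)⟩ : (tupPsh c (n + 1)).obj W) x := fun i => Finsupp.mapDomain_single
    simp only [hc]
    abel
  have h1 := DFunLike.congr_fun key (z : FS F (tupPsh c (n + 1)) W)
  refine Eq.trans ?_ h1
  change _ = (show FS F (tupPsh c (n + 1)) W from bd (n + 1) (cn (n + 1) z)) +
    (show FS F (tupPsh c (n + 1)) W from cn n (bd n z))
  rw [show bd n z = 0 from hz, map_zero]
  refine Eq.trans ?_ (add_zero _).symm
  rfl

/-- Cech cocycles of families of morphisms into an injective module are coboundaries. -/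
theorem exists_cech_family {n : ℕ} (a : ∀ (V : C), (tupPsh c (n + 1)).obj (op V) → HomOn F I V)
    (ha : IsFamily a)
    (hcoc : ∀ (V : C) (t : Tup c (n + 2) V), ∑ i : Fin (n + 3), (-1 : ℤ) ^ (i : ℕ) • a V ⟨face i t⟩ = 0) :
    ∃ b : ∀ (V : C), (tupPsh c n).obj (op V) → HomOn F I V, IsFamily b ∧
      ∀ (V : C) (t : Tup c (n + 1) V), ∑ i : Fin (n + 2), (-1 : ℤ) ^ (i : ℕ) • b V ⟨face i t⟩ = a V ⟨t⟩ := by
  haveI := injective_val I
  let evH : ∀ (V : C) (x : F.val.obj (op V)), HomOn F I V →+ I.val.obj (op V) := fun V x =>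
    AddMonoidHom.mk' (fun φ => ev φ (𝟙 V) x) fun φ ψ => ev_add φ ψ (𝟙 V) x
  have h : fsBd F c (n + 1) ≫ ofFamily a ha = 0 := by
    refine fs_ext F fun V t x => ?_
    obtain ⟨t⟩ := t
    change (ofFamily a ha).app V ((fsBd F c (n + 1)).app V (fsGen F (S := tupPsh c (n + 2)) ⟨t⟩ x)) = 0
    rw [fsBd_gen, map_sum]
    have := congrArg (evH V.unop x) (hcoc V.unop t)
    rw [map_sum, map_zero] at this
    refine Eq.trans (Finset.sum_congr rfl fun i _ => ?_) this
    rw [map_zsmul, map_zsmul, ofFamily_gen]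
    rfl
  let ψ := (exact_fsBd F c n).descToInjective (ofFamily a ha) h
  refine ⟨toFamily ψ, isFamily_toFamily ψ, fun V t => ev_ext fun W g x => ?_⟩
  let evG : HomOn F I V →+ I.val.obj (op W) :=
    AddMonoidHom.mk' (fun φ => ev φ g x) fun φ φ' => ev_add φ φ' g x
  refine (map_sum evG _ _).trans ?_
  rw [ev_eq_ofFamily a ha]
  have hψ : (fsBd F c n ≫ ψ).app (op W) (fsGen F (S := tupPsh c (n + 1)) ⟨res g t⟩ x) =
      (ofFamily a ha).app (op W) (fsGen F (S := tupPsh c (n + 1)) ⟨res g t⟩ x) :=
    congrArg (fun φ : fsPsh F (tupPsh c (n + 1)) ⟶ I.val =>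
      φ.app (op W) (fsGen F (S := tupPsh c (n + 1)) ⟨res g t⟩ x)) ((exact_fsBd F c n).comp_descToInjective (ofFamily a ha) h)
  refine Eq.trans ?_ hψ
  change _ = ψ.app (op W) ((fsBd F c n).app (op W) (fsGen F (S := tupPsh c (n + 1)) ⟨res g t⟩ x))
  rw [fsBd_gen, map_sum]
  refine Finset.sum_congr rfl fun i _ => ?_
  rw [map_zsmul, map_zsmul]
  rfl

end Cech

end Groth.Agent.Lib.EtMod.HomCx
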