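import Groth.Agent.Lib.EtMod.HomCx.Global
import Groth.Agent.H8.ModQ.Detects
import Groth.Agent.Lib.RlimTrunc.Milnor
import Groth.Agent.Lib.DerCat.ProdPlus

/-!
# Morphisms from perfect objects into objects with quasi-coherent cohomology
-/

set_option autoImplicit false
set_option backward.isDefEq.respectTransparency false
set_option backward.isDefEq.respectTransparency.types false
set_option linter.style.haveILetI false

universe u

open CategoryTheory CategoryTheory.Limits CategoryTheory.Pretriangulated AlgebraicGeometry AlgSp DerivedCategory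

attribute [local instance] HasDerivedCategory.standard

namespace Groth.Agent.Lib.EtMod.HomCx

open Lib.WayOut.Bounded (hasP_truncLT hasP_truncGE isLE_truncGE isGE_truncLT)
open H8.ModQ (qc)

section Tri

variable {C : Type*} [Category C] [Preadditive C] [HasShift C ℤ]
  [∀ n : ℤ, (shiftFunctor C n).Additive]

/-- Morphisms out of a negative shift. -/
theorem eq_zero_shift {P M : C} (i : ℤ) (h : ∀ ψ : P ⟶ M⟦i⟧, ψ = 0) (φ : P⟦-i⟧ ⟶ M) : φ = 0 := by
  apply (shiftFunctor C i).map_injective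
  rw [Functor.map_zero, ← cancel_epi ((shiftFunctorCompIsoId C (-i) i (neg_add_cancel i)).inv.app P),
    comp_zero]
  exact h _

/-- Morphisms out of a shift, the other direction. -/
theorem eq_zero_of_shift {P M : C} (i : ℤ) (h : ∀ φ : P⟦i⟧ ⟶ M⟦i⟧, φ = 0) (ψ : P ⟶ M) : ψ = 0 := by
  apply (shiftFunctor C i).map_injective
  rw [Functor.map_zero]
  exact h _

variable [HasZeroObject C] [Pretriangulated C]

/-- A distinguished triangle with two invisible shifts of its first object. -/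
theorem iff_of_triangle (T : Triangle C) (hT : T ∈ distTriang C)
    (P : C) (h₁ : ∀ f : P ⟶ T.obj₁, f = 0) (h₂ : ∀ f : P ⟶ T.obj₁⟦(1 : ℤ)⟧, f = 0) :
    (∀ φ : P ⟶ T.obj₂, φ = 0) ↔ (∀ φ : P ⟶ T.obj₃, φ = 0) := by
  constructor
  · intro h φ
    obtain ⟨ψ, hψ⟩ := Triangle.coyoneda_exact₃ T hT φ (h₂ _)
    rw [hψ, h ψ, zero_comp]
  · intro h φ
    obtain ⟨ψ, hψ⟩ := Triangle.coyoneda_exact₂ T hT φ (h _)
    rw [hψ, h₁ ψ, zero_comp]

end Tri

variable {S : Scheme.{u}} {X : Sp S}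

/-- Shifts keep quasi-coherent cohomology. -/
theorem isQCohDMod_shift {L : DModEt X} (hL : DCoh.IsQCohDMod (OEtRing X) L) (n : ℤ) :
    DCoh.IsQCohDMod (OEtRing X) (L⟦n⟧) := fun i =>
  (SheafOfModules.isQuasicoherent.{u + 1} (OEtRing X)).prop_of_iso
    (((DerivedCategory.homologyFunctor (ModEt X) 0).shiftIso n i (n + i) rfl).app L).symm (hL _)

/-- Cohomology of a shift. -/
theorem isZero_HDMod_shift {L : DModEt X} {n i : ℤ}
    (h : IsZero (DCoh.HDMod (OEtRing X) L (n + i))) : IsZero (DCoh.HDMod (OEtRing X) (L⟦n⟧) i) :=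
  h.of_iso (((DerivedCategory.homologyFunctor (ModEt X) 0).shiftIso n i (n + i) rfl).app L)

/-- Bounded objects: dévissage. -/
theorem homZero_of_bounded {K : DModEt X} {N : ℤ}
    (hN : ∀ (M : ModEt X), M.IsQuasicoherent → ∀ k : ℤ, N ≤ k →
      ∀ φ : K ⟶ (DCoh.inDMod (OEtRing X) M)⟦k⟧, φ = 0) (d : ℕ) :
    ∀ (a c : ℤ) (L : DModEt X) [L.IsLE a] [L.IsGE c], a - c + 1 ≤ d → a ≤ -N →
      DCoh.IsQCohDMod (OEtRing X) L → ∀ φ : K ⟶ L, φ = 0 := by
  induction d with
  | zero =>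
    intro a c L _ _ hd _ _ φ
    exact (TStructure.t.isZero L a c (by omega)).eq_of_tgt _ _
  | succ d ih =>
    intro a c L _ _ hd ha hL φ
    let T := ((TStructure.t : Triangulated.TStructure (DModEt X)).triangleLTGE a).obj L
    have hT : T ∈ distTriang (DModEt X) := TStructure.t.triangleLTGE_distinguished a L
    haveI : T.obj₁.IsGE c := isGE_truncLT L a c
    haveI : T.obj₁.IsLE (a - 1) :=
      (inferInstance : TStructure.t.IsLE ((TStructure.t.truncLT a).obj L) (a - 1))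
    haveI : T.obj₃.IsLE a := isLE_truncGE L a a
    haveI : T.obj₃.IsGE a :=
      (inferInstance : TStructure.t.IsGE ((TStructure.t.truncGE a).obj L) a)
    obtain ⟨M, ⟨e⟩⟩ := exists_iso_singleFunctor_obj_of_isGE_of_isLE T.obj₃ a
    have hM : M.IsQuasicoherent := (SheafOfModules.isQuasicoherent.{u + 1} (OEtRing X)).prop_of_iso
      ((DerivedCategory.homologyFunctor (ModEt X) a).mapIso e ≪≫
        (singleFunctorCompHomologyFunctorIso (ModEt X) a).app M) (hasP_truncGE (P := qc X) hL a a)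
    let e' : T.obj₃ ≅ (DCoh.inDMod (OEtRing X) M)⟦-a⟧ :=
      e ≪≫ (((DerivedCategory.singleFunctors (ModEt X)).shiftIso (-a) a 0 (by omega)).app M).symm
    obtain ⟨ψ, hψ⟩ := Triangle.coyoneda_exact₂ T hT φ (by
      rw [← cancel_mono e'.hom, zero_comp]
      exact hN M hM (-a) (by omega) _)
    rw [hψ, ih (a - 1) c T.obj₁ (by omega) (by omega) (hasP_truncLT (P := qc X) hL a) ψ, zero_comp]

/-- Objects with quasi-coherent cohomology in very negative degrees receive no morphisms. -/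
theorem homZero_of_isLE {K : DModEt X} {N : ℤ}
    (hN : ∀ (M : ModEt X), M.IsQuasicoherent → ∀ k : ℤ, N ≤ k →
      ∀ φ : K ⟶ (DCoh.inDMod (OEtRing X) M)⟦k⟧, φ = 0)
    (a : ℤ) (ha : a + 1 ≤ -N) (L : DModEt X) [L.IsLE a] (hL : DCoh.IsQCohDMod (OEtRing X) L)
    (φ : K ⟶ L) : φ = 0 := by
  haveI : HasProduct (CohCx.truncTower L) :=
    DerCat.ProdPlus.hasProduct_of_isGE _ fun n => ⟨-(n : ℤ),
      (inferInstance : TStructure.t.IsGE ((TStructure.t.truncGE (-(n : ℤ))).obj L) (-(n : ℤ)))⟩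
  haveI hge : ∀ n, (CohCx.truncTower L n).IsGE (-(n : ℤ)) := fun n =>
    (inferInstance : TStructure.t.IsGE ((TStructure.t.truncGE (-(n : ℤ))).obj L) (-(n : ℤ)))
  haveI hle : ∀ n, (CohCx.truncTower L n).IsLE a := fun n => isLE_truncGE L _ a
  have hq : ∀ n, DCoh.IsQCohDMod (OEtRing X) (CohCx.truncTower L n) := fun n =>
    hasP_truncGE (P := qc X) hL _
  refine RlimTrunc.Milnor.eq_zero (H8.ModQ.isRlimVia_truncTower L hL)
    (RlimTrunc.Milnor.limSurj_of_homZero fun n f => ?_) φ fun n => ?_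
  · refine eq_zero_shift (-1) (fun ψ => ?_) f
    haveI : ((CohCx.truncTower L n)⟦(-1 : ℤ)⟧).IsLE (a + 1) :=
      TStructure.t.isLE_shift (CohCx.truncTower L n) a (-1) (a + 1) (by omega)
    haveI : ((CohCx.truncTower L n)⟦(-1 : ℤ)⟧).IsGE (-(n : ℤ) + 1) :=
      TStructure.t.isGE_shift (CohCx.truncTower L n) (-(n : ℤ)) (-1) (-(n : ℤ) + 1) (by omega)
    exact homZero_of_bounded hN (a + n + 1).toNat (a + 1) (-(n : ℤ) + 1) _ (by omega) (by omega)
      (isQCohDMod_shift (hq n) _) ψ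
  · exact homZero_of_bounded hN (a + n + 1).toNat a (-(n : ℤ)) _ (by omega) (by omega) (hq n) _

variable [QuasiSeparatedSpace ↥S]

/-- Morphisms from a perfect object only see a range of degrees. -/
theorem exists_range (Y : Space S) (hqc : IsQuasiCompactSp Y.obj) (hqs : IsQuasiSeparatedSp Y.obj)
    (K : DModEt Y.obj) (hK : IsPerfectEtD K) :
    ∃ a b : ℤ, a ≤ b ∧ ∀ L : DModEt Y.obj, DCoh.IsQCohDMod (OEtRing Y.obj) L →
      (∀ i : ℤ, a ≤ i → i ≤ b → IsZero (DCoh.HDMod (OEtRing Y.obj) L i)) →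
      ∀ φ : K ⟶ L, φ = 0 := by
  obtain ⟨N, hN⟩ := exists_bound_hom Y hqc hqs K hK
  obtain ⟨b, hb⟩ := exists_isLE_of_isPerfect Y.property hqc hK
  refine ⟨min b (-N), b, min_le_left _ _, fun L hL hz φ => ?_⟩
  let a := min b (-N)
  let T := ((TStructure.t : Triangulated.TStructure (DModEt Y.obj)).triangleLTGE a).obj L
  have hT : T ∈ distTriang (DModEt Y.obj) := TStructure.t.triangleLTGE_distinguished a L
  haveI : T.obj₁.IsLE (a - 1) :=
    (inferInstance : TStructure.t.IsLE ((TStructure.t.truncLT a).obj L) (a - 1))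
  have h3 : φ ≫ T.mor₂ = 0 := by
    haveI : T.obj₃.IsGE (b + 1) := (isGE_iff _ _).2 fun i hi => by
      by_cases hi' : a ≤ i
      · haveI := Lib.WayOut.Bounded.isIso_homologyMap_truncGEπ L a i hi'
        exact (hz i hi' (by omega)).of_iso
          (asIso ((DerivedCategory.homologyFunctor (ModEt Y.obj) i).map
            (((TStructure.t : Triangulated.TStructure (DModEt Y.obj)).truncGEπ a).app L))).symm
      · exact @isZero_of_isGE _ _ _ _ T.obj₃ a i (by omega)
          (inferInstance : TStructure.t.IsGE ((TStructure.t.truncGE a).obj L) a)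
    exact TStructure.t.zero_of_isLE_of_isGE _ b (b + 1) (by omega) hb inferInstance
  obtain ⟨ψ, hψ⟩ := Triangle.coyoneda_exact₂ T hT φ h3
  rw [hψ, homZero_of_isLE hN (a - 1) (by omega) T.obj₁ (hasP_truncLT (P := qc Y.obj) hL a) ψ,
    zero_comp]

/-- Morphisms from large negative shifts only see the truncation above. -/
theorem iff_truncGE (Y : Space S) (hqc : IsQuasiCompactSp Y.obj) (hqs : IsQuasiSeparatedSp Y.obj)
    {P : DModEt Y.obj} (hP : IsPerfectEtD P) {E : DModEt Y.obj}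
    (hE : DCoh.IsQCohDMod (OEtRing Y.obj) E) (a : ℤ) :
    (∃ N : ℤ, ∀ i : ℤ, N ≤ i → ∀ φ : P⟦-i⟧ ⟶ E, φ = 0) ↔
    (∃ N : ℤ, ∀ i : ℤ, N ≤ i → ∀ φ : P⟦-i⟧ ⟶
      ((TStructure.t : Triangulated.TStructure (DModEt Y.obj)).truncGE a).obj E, φ = 0) := by
  obtain ⟨c, d, hcd, h⟩ := exists_range Y hqc hqs P hP
  let T := ((TStructure.t : Triangulated.TStructure (DModEt Y.obj)).triangleLTGE a).obj E
  have hT : T ∈ distTriang (DModEt Y.obj) := TStructure.t.triangleLTGE_distinguished a E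
  have hq : DCoh.IsQCohDMod (OEtRing Y.obj) T.obj₁ := hasP_truncLT (P := qc Y.obj) hE a
  have hle : ∀ j, a ≤ j → IsZero (DCoh.HDMod (OEtRing Y.obj) T.obj₁ j) := fun j hj =>
    @isZero_of_isLE _ _ _ _ T.obj₁ (a - 1) j (by omega)
      (inferInstance : TStructure.t.IsLE ((TStructure.t.truncLT a).obj E) (a - 1))
  have key : ∀ i : ℤ, a - c ≤ i → ((∀ φ : P⟦-i⟧ ⟶ E, φ = 0) ↔ (∀ φ : P⟦-i⟧ ⟶ T.obj₃, φ = 0)) :=
    fun i hi => iff_of_triangle T hT _
      (fun f => eq_zero_shift i (fun ψ => h _ (isQCohDMod_shift hq _)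
        (fun j h1 h2 => isZero_HDMod_shift (hle _ (by omega))) ψ) f)
      (fun f => eq_zero_shift i (fun ψ => h _ (isQCohDMod_shift (isQCohDMod_shift hq _) _)
        (fun j h1 h2 => isZero_HDMod_shift (isZero_HDMod_shift (hle _ (by omega)))) ψ) f)
  constructor <;> rintro ⟨N, hN⟩ <;> refine ⟨max N (a - c), fun i hi => ?_⟩
  · exact (key i (by omega)).1 (hN i (by omega))
  · exact (key i (by omega)).2 (hN i (by omega))

/-- Morphisms from large positive shifts only see the truncation below. -/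
theorem iff_truncLE (Y : Space S) (hqc : IsQuasiCompactSp Y.obj) (hqs : IsQuasiSeparatedSp Y.obj)
    {P : DModEt Y.obj} (hP : IsPerfectEtD P) {E : DModEt Y.obj}
    (hE : DCoh.IsQCohDMod (OEtRing Y.obj) E) (a : ℤ) :
    (∃ N : ℤ, ∀ i : ℤ, i ≤ N → ∀ φ : P⟦-i⟧ ⟶ E, φ = 0) ↔
    (∃ N : ℤ, ∀ i : ℤ, i ≤ N → ∀ φ : P⟦-i⟧ ⟶
      ((TStructure.t : Triangulated.TStructure (DModEt Y.obj)).truncLE a).obj E, φ = 0) := by
  obtain ⟨c, d, hcd, h⟩ := exists_range Y hqc hqs P hP
  let T := ((TStructure.t : Triangulated.TStructure (DModEt Y.obj)).triangleLTGE (a + 1)).obj E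
  have hT : T.invRotate ∈ distTriang (DModEt Y.obj) :=
    inv_rot_of_distTriang _ (TStructure.t.triangleLTGE_distinguished (a + 1) E)
  have hq : DCoh.IsQCohDMod (OEtRing Y.obj) T.obj₃ := hasP_truncGE (P := qc Y.obj) hE (a + 1)
  have hge : ∀ j, j ≤ a → IsZero (DCoh.HDMod (OEtRing Y.obj) T.obj₃ j) := fun j hj =>
    @isZero_of_isGE _ _ _ _ T.obj₃ (a + 1) j (by omega)
      (inferInstance : TStructure.t.IsGE ((TStructure.t.truncGE (a + 1)).obj E) (a + 1))
  have key : ∀ i : ℤ, i ≤ a - d → ((∀ φ : P⟦-i⟧ ⟶ T.obj₁, φ = 0) ↔ (∀ φ : P⟦-i⟧ ⟶ E, φ = 0)) :=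
    fun i hi => iff_of_triangle T.invRotate hT _
      (fun f => eq_zero_shift i (fun ψ => h _ (isQCohDMod_shift (isQCohDMod_shift hq _) _)
        (fun j h1 h2 => isZero_HDMod_shift (isZero_HDMod_shift (hge _ (by omega)))) ψ) f)
      (fun f => eq_zero_shift i (fun ψ => h _
        (isQCohDMod_shift (isQCohDMod_shift (isQCohDMod_shift hq _) _) _)
        (fun j h1 h2 => isZero_HDMod_shift (isZero_HDMod_shift (isZero_HDMod_shift (hge _ (by omega))))) ψ) f)
  constructor <;> rintro ⟨N, hN⟩ <;> refine ⟨min N (a - d), fun i hi => ?_⟩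
  · exact (key i (by omega)).2 (hN i (by omega))
  · exact (key i (by omega)).1 (hN i (by omega))

end Groth.Agent.Lib.EtMod.HomCx
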